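import Cfsg.Agent.H98.TensorGL.Main
import Cfsg.Agent.H96.TensorCoords

/-!
The stabiliser of a tensor decomposition in matrix terms.
-/

set_option autoImplicit false

namespace Cfsg.Agent.H98.TensorGL

open Module Matrix Kronecker Cfsg.Agent.H98.ExtField Cfsg.Agent.H96

variable {F : Type*} [Field F] {a b n : ℕ}

/-- A map sending each `F^a ⊗ v` to another one is a tensor product of two maps. -/
theorem exists_of_pure (ha : 0 < a) (hb : 0 < b) {g : (Module.End F (T F a b))ˣ}
    (h : ∀ v : Fin b → F, v ≠ 0 → ¬ NotPure ((g : Module.End F (T F a b)) ∘ₗ pure v)) :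
    ∃ (A : GL (Fin a) F) (B : GL (Fin b) F), ∀ (m : T F a b), (g : Module.End F (T F a b)) m =
      fun i => ∑ k, (A : Matrix (Fin a) (Fin a) F) i k • ((B : Matrix (Fin b) (Fin b) F) *ᵥ m k) := by
  simp only [NotPure, not_forall, not_not] at h
  choose s hs using h
  let e : Fin b → Fin b → F := fun j => Pi.single j 1
  have he : ∀ j, e j ≠ 0 := fun j => by simp [e]
  let S : Fin b → Fin b → F := fun j => s (e j) (he j)
  have hS : ∀ j u, ∃ z, (g : Module.End F (T F a b)) (pure (e j) u) = pure (S j) z := fun j u => by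
    obtain ⟨z, hz⟩ := hs (e j) (he j) ⟨u, rfl⟩
    exact ⟨z, hz.symm⟩
  choose Z hZ using hS
  have hginj : ∀ v : Fin b → F, v ≠ 0 → Function.Injective ((g : Module.End F (T F a b)) ∘ₗ pure (a := a) v) :=
    fun v hv => injective_image g hv
  let one : Fin a → F := fun _ => 1
  have hone : one ≠ 0 := fun h => one_ne_zero (congrFun h ⟨0, ha⟩)
  have hS0 : ∀ j, S j ≠ 0 := fun j h0 => by
    have h1 := hZ j one
    rw [h0, show pure (0 : Fin b → F) (Z j one) = 0 from funext fun i => by simp, ← map_zero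
      ((g : Module.End F (T F a b)) ∘ₗ pure (e j))] at h1
    exact hone (hginj _ (he j) h1)
  have hindep : ∀ j k, j ≠ k → S j ∉ Submodule.span F {S k} := fun j k hjk hmem => by
    obtain ⟨r, hr⟩ := Submodule.mem_span_singleton.1 hmem
    have hle : LinearMap.range ((g : Module.End F (T F a b)) ∘ₗ pure (e k)) = LinearMap.range (pure (S k)) := by
      refine Submodule.eq_of_le_of_finrank_eq (hs (e k) (he k)) ?_
      rw [LinearMap.finrank_range_of_inj (hginj _ (he k)), LinearMap.finrank_range_of_inj (pure_injective (hS0 k))]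
    obtain ⟨u, hu⟩ : (g : Module.End F (T F a b)) (pure (e j) one) ∈
        LinearMap.range ((g : Module.End F (T F a b)) ∘ₗ pure (e k)) := by
      rw [hle]
      refine ⟨r • Z j one, ?_⟩
      rw [hZ, ← hr]
      exact funext fun i => by simp [smul_smul, mul_comm]
    have h1 := units_injective g hu
    have h2 := congrFun (congrFun h1 ⟨0, ha⟩) j
    simp [e, one, hjk] at h2
  let j₀ : Fin b := ⟨0, hb⟩
  obtain ⟨α, hα⟩ : ∃ α : Dual F (Fin b → F), α (S j₀) = 1 := by
    obtain ⟨α, h1, -⟩ := Submodule.exists_le_ker_of_notMem (p := (⊥ : Submodule F (Fin b → F))) (v := S j₀)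
      (by rw [Submodule.mem_bot]; exact hS0 j₀)
    exact ⟨(α (S j₀))⁻¹ • α, by rw [LinearMap.smul_apply, smul_eq_mul, inv_mul_cancel₀ h1]⟩
  let X : (Fin a → F) →ₗ[F] (Fin a → F) := ev α ∘ₗ (g : Module.End F (T F a b)) ∘ₗ pure (e j₀)
  have hX : ∀ u, (g : Module.End F (T F a b)) (pure (e j₀) u) = pure (S j₀) (X u) := fun u => by
    show _ = pure (S j₀) (ev α ((g : Module.End F (T F a b)) (pure (e j₀) u)))
    rw [hZ, ev_pure, hα, one_smul]
  have hscal : ∀ j, ∃ c : F, ∀ u, (g : Module.End F (T F a b)) (pure (e j) u) = pure (S j) (c • X u) := by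
    intro j
    rcases eq_or_ne j j₀ with rfl | hj
    · exact ⟨1, fun u => by rw [one_smul, hX]⟩
    obtain ⟨β, hβ, hβle⟩ := Submodule.exists_le_ker_of_notMem (hindep j j₀ hj)
    obtain ⟨γ, hγ, hγle⟩ := Submodule.exists_le_ker_of_notMem (hindep j₀ j hj.symm)
    have hβ0 : β (S j₀) = 0 := hβle (Submodule.mem_span_singleton_self _)
    have hγ0 : γ (S j) = 0 := hγle (Submodule.mem_span_singleton_self _)
    have hne : e j₀ + e j ≠ 0 := fun h => by simpa [e, hj] using congrFun h j
    set s' := s (e j₀ + e j) hne with hs'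
    have hz : ∀ u, ∃ z, γ (S j₀) • X u = γ s' • z ∧ β (S j) • Z j u = β s' • z := fun u => by
      obtain ⟨z, hz⟩ := hs (e j₀ + e j) hne ⟨u, rfl⟩
      have hsum : pure (S j₀) (X u) + pure (S j) (Z j u) = pure s' z := by
        rw [hz, ← hX, ← hZ, ← map_add, LinearMap.comp_apply]
        congr 1
        exact funext fun i => by simp [smul_add]
      have h1 := congrArg (ev γ) hsum
      have h2 := congrArg (ev β) hsum
      rw [map_add, ev_pure, ev_pure, ev_pure, hγ0, zero_smul, add_zero] at h1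
      rw [map_add, ev_pure, ev_pure, ev_pure, hβ0, zero_smul, zero_add] at h2
      exact ⟨z, h1, h2⟩
    have hγs : γ s' ≠ 0 := fun h0 => by
      obtain ⟨z, h1, -⟩ := hz one
      rw [h0, zero_smul, smul_eq_zero] at h1
      have h2 := hX one
      rw [h1.resolve_left hγ, map_zero, ← map_zero ((g : Module.End F (T F a b)) ∘ₗ pure (e j₀))] at h2
      exact hone (hginj _ (he j₀) h2)
    refine ⟨(β (S j))⁻¹ * (β s' * ((γ s')⁻¹ * γ (S j₀))), fun u => ?_⟩
    obtain ⟨z, h1, h2⟩ := hz u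
    have hz' : z = ((γ s')⁻¹ * γ (S j₀)) • X u := by rw [mul_smul, h1, inv_smul_smul₀ hγs]
    have hZj : Z j u = (β (S j))⁻¹ • (β s' • z) := by rw [← h2, inv_smul_smul₀ hβ]
    rw [hZ, hZj, hz', smul_smul, smul_smul]
    congr 2
    ring
  choose c hc using hscal
  let Xm := LinearMap.toMatrix' X
  let Tm : Matrix (Fin b) (Fin b) F := Matrix.of fun l j => c j * S j l
  have hact : ∀ m : T F a b, (g : Module.End F (T F a b)) m = fun i => ∑ k, Xm i k • (Tm *ᵥ m k) := by
    intro m
    conv_lhs => rw [eq_sum_pure m, map_sum]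
    refine funext fun i => funext fun l => ?_
    have hXm : ∀ u, X u = Xm *ᵥ u := fun u => (LinearMap.toMatrix'_mulVec X u).symm
    simp only [e] at hc
    simp only [hc, hXm, Finset.sum_apply, pure_apply, Pi.smul_apply, smul_eq_mul, Matrix.mulVec, dotProduct, Tm,
      of_apply, Finset.mul_sum, Finset.sum_mul]
    rw [Finset.sum_comm]
    exact Finset.sum_congr rfl fun k _ => Finset.sum_congr rfl fun j _ => by ring
  have hunit : ∀ {k : ℕ} (Y : Matrix (Fin k) (Fin k) F), (∀ u, Y *ᵥ u = 0 → u = 0) → IsUnit Y := fun Y hY =>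
    Matrix.mulVec_injective_iff_isUnit.1
      ((injective_iff_map_eq_zero (Matrix.mulVecLin Y)).2 fun u hu => hY u hu)
  have hXu : IsUnit Xm := hunit _ fun u hu => by
    have h2 := hX u
    rw [← LinearMap.toMatrix'_mulVec X u, hu, map_zero,
      ← map_zero ((g : Module.End F (T F a b)) ∘ₗ pure (e j₀))] at h2
    exact hginj _ (he j₀) h2
  have hTu : IsUnit Tm := hunit _ fun w hw => by
    by_contra hw0
    refine hone (hginj w hw0 ?_)
    rw [map_zero, LinearMap.comp_apply, hact]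
    exact funext fun i => by simp [Matrix.mulVec_smul, hw]
  exact ⟨hXu.unit, hTu.unit, hact⟩

/-- The isomorphism with the units of the endomorphisms of `F^a ⊗ F^b`. -/
noncomputable def toUnits (e : Fin n ≃ Fin a × Fin b) (P : GL (Fin n) F) :
    GL (Fin n) F ≃* (Module.End F (T F a b))ˣ :=
  Units.mapEquiv (Matrix.toLinAlgEquiv'.trans ((tensorIso e P).symm.conjAlgEquiv F)).toMulEquiv

theorem toUnits_apply (e : Fin n ≃ Fin a × Fin b) (P g : GL (Fin n) F) (m : T F a b) :
    (toUnits e P g : Module.End F (T F a b)) m =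
      (tensorIso e P).symm ((g : Matrix (Fin n) (Fin n) F) *ᵥ tensorIso e P m) := rfl

theorem det_toUnits (e : Fin n ≃ Fin a × Fin b) (P g : GL (Fin n) F) :
    LinearMap.det (toUnits e P g : Module.End F (T F a b)) = (g : Matrix (Fin n) (Fin n) F).det := by
  rw [show (toUnits e P g : Module.End F (T F a b)) =
    ((tensorIso e P).symm : (Fin n → F) →ₗ[F] T F a b) ∘ₗ Matrix.toLin' (g : Matrix (Fin n) (Fin n) F) ∘ₗ
      ((tensorIso e P).symm.symm : T F a b →ₗ[F] (Fin n → F)) from LinearMap.ext fun m => rfl,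
    LinearMap.det_conj, LinearMap.det_toLin']

theorem tensor_mem {e : Fin n ≃ Fin a × Fin b} {P g : GL (Fin n) F} (A : GL (Fin a) F) (B : GL (Fin b) F)
    (h : ∀ m, (toUnits e P g : Module.End F (T F a b)) m =
      fun i => ∑ k, (A : Matrix (Fin a) (Fin a) F) i k • ((B : Matrix (Fin b) (Fin b) F) *ᵥ m k)) :
    g ∈ Cfsg.Geo.tensorProductSubgroup a b e P := by
  let K : GL (Fin a × Fin b) F :=
    ⟨(A : Matrix (Fin a) (Fin a) F) ⊗ₖ (B : Matrix (Fin b) (Fin b) F),
      ((A⁻¹ : GL (Fin a) F) : Matrix (Fin a) (Fin a) F) ⊗ₖ ((B⁻¹ : GL (Fin b) F) : Matrix (Fin b) (Fin b) F),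
      by rw [← Matrix.mul_kronecker_mul, Units.mul_inv, Units.mul_inv, Matrix.one_kronecker_one],
      by rw [← Matrix.mul_kronecker_mul, Units.inv_mul, Units.inv_mul, Matrix.one_kronecker_one]⟩
  let g₀ : GL (Fin n) F := (MulAut.conj P).toMonoidHom ((Cfsg.Geo.glReindex e.symm).toMonoidHom K)
  suffices g = g₀ by rw [this]; exact ⟨_, ⟨K, ⟨A, B, rfl⟩, rfl⟩, rfl⟩
  refine Units.ext (Matrix.ext_iff_mulVec.2 fun v => ?_)
  obtain ⟨m, rfl⟩ := (tensorIso e P).surjective v
  have h1 := h m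
  rw [toUnits_apply, LinearEquiv.symm_apply_eq] at h1
  rw [h1]
  have hP : ((P⁻¹ : GL (Fin n) F) : Matrix (Fin n) (Fin n) F) * (P : Matrix (Fin n) (Fin n) F) = 1 := by
    rw [← Units.val_mul, inv_mul_cancel, Units.val_one]
  show _ = ((P : Matrix (Fin n) (Fin n) F) * Matrix.reindex e.symm e.symm
    ((A : Matrix (Fin a) (Fin a) F) ⊗ₖ (B : Matrix (Fin b) (Fin b) F)) *
      ((P⁻¹ : GL (Fin n) F) : Matrix (Fin n) (Fin n) F)) *ᵥ _
  rw [tensorIso_apply, tensorIso_apply, Matrix.mulVec_mulVec, Matrix.mul_assoc, hP, Matrix.mul_one,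
    ← Matrix.mulVec_mulVec]
  congr 1
  funext i
  simp only [Matrix.mulVec, dotProduct, Matrix.reindex_apply, Matrix.submatrix_apply, Function.comp_apply,
    Equiv.symm_symm, Finset.sum_apply, Pi.smul_apply, smul_eq_mul]
  rw [Equiv.sum_comp e (fun p => ((A : Matrix (Fin a) (Fin a) F) ⊗ₖ (B : Matrix (Fin b) (Fin b) F)) (e i) p *
    m p.1 p.2), Fintype.sum_prod_type]
  refine Finset.sum_congr rfl fun k _ => ?_
  rw [Finset.mul_sum]
  refine Finset.sum_congr rfl fun j _ => ?_
  rw [Matrix.kroneckerMap_apply]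
  ring

end Cfsg.Agent.H98.TensorGL
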