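import Cfsg.Agent.H98.TensorGL.Elementary

/-!
An element that maps some `F^a ⊗ v` to a subspace of small support gives a non-scalar matrix in `InL`.
-/

set_option autoImplicit false

namespace Cfsg.Agent.H98.TensorGL

open Module Matrix Cfsg.Agent.H98.ExtField

variable {F : Type*} [Field F] {a b : ℕ} {M : Subgroup (Module.End F (T F a b))ˣ}

/-- `InL` has a non-scalar member. -/
def HasNonScalar (M : Subgroup (Module.End F (T F a b))ˣ) : Prop :=
  ∃ X : Matrix (Fin a) (Fin a) F, InL M X ∧ ∀ t : F, X ≠ t • 1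

theorem Ov.of_comp (hM : Ov M) (hb : 3 ≤ b) {Y : (Fin a → F) →ₗ[F] T F a b} {φ : Dual F (Fin b → F)}
    (hφ : φ ≠ 0) (hC : MN M (Y ∘ₗ ev φ)) :
    HasNonScalar M ∨ ∃ s, Y = pure s := by
  by_cases hall : ∀ φ' : Dual F (Fin b → F), ∃ t : F, ev φ' ∘ₗ Y = t • LinearMap.id
  · right
    choose t ht using hall
    refine ⟨fun j => t (LinearMap.proj j), LinearMap.ext fun u => funext fun i => funext fun j => ?_⟩
    have := congrFun (LinearMap.congr_fun (ht (LinearMap.proj j)) u) i
    simp only [LinearMap.coe_comp, Function.comp_apply, ev_apply, LinearMap.proj_apply, LinearMap.smul_apply,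
      LinearMap.id_apply, Pi.smul_apply, smul_eq_mul] at this
    rw [this, pure_apply, Pi.smul_apply, smul_eq_mul, mul_comm]
  · left
    obtain ⟨φ', hφ'⟩ := not_forall.1 hall
    obtain ⟨v, hv0, hv, hv'⟩ := exists_vec_two hb φ φ'
    have hab : (Y ∘ₗ ev φ) * te (1 : Matrix (Fin a) (Fin a) F) v φ' = 0 := LinearMap.ext fun m => by
      simp [te_apply, ev_pure, hv]
    have := MN.comm hC (hM.right v φ' hv') hab
    refine ⟨LinearMap.toMatrix' (ev φ' ∘ₗ Y), ?_, fun t ht => hφ' ⟨t, ?_⟩⟩
    · have h := hM.inL hb hv0 hφ hv (X := LinearMap.toMatrix' (ev φ' ∘ₗ Y)) ?_ 1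
      · rwa [one_smul] at h
      convert this using 1
      refine LinearMap.ext fun m => ?_
      simp [te_apply, LinearMap.toMatrix'_mulVec]
    · apply LinearMap.toMatrix'.injective
      rw [ht, map_smul, LinearMap.toMatrix'_id]

/-- A map in `MN` with image of deficient support. -/
theorem Ov.of_supp (hM : Ov M) (hb : 3 ≤ b) {N : Module.End F (T F a b)} (hN : MN M N)
    {φ : Dual F (Fin b → F)} (hφ : φ ≠ 0) (hφN : ev φ ∘ₗ N = 0) (v : Fin b → F) (hv : φ v = 0) :
    HasNonScalar M ∨ ∃ s, N ∘ₗ pure v = pure s := by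
  have hφN' : ∀ x, ev φ (N x) = 0 := fun x => LinearMap.congr_fun hφN x
  have hab : te (1 : Matrix (Fin a) (Fin a) F) v φ * N = 0 := LinearMap.ext fun x => by
    simp [te_apply, hφN']
  refine hM.of_comp hb hφ ?_
  convert MN.comm (hM.right v φ hv) hN hab using 1
  exact LinearMap.ext fun x => by simp [te_apply]

/-- `Y` does not map onto a subspace `F^a ⊗ v`. -/
def NotPure (Y : (Fin a → F) →ₗ[F] T F a b) : Prop :=
  ∀ s : Fin b → F, ¬ LinearMap.range Y ≤ LinearMap.range (pure s)

/-- The conjugates of `1 ⊗ v₀ φ₀`. -/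
theorem mn_family (hM : Ov M) {g : (Module.End F (T F a b))ˣ} (hg : g ∈ M) {v₀ : Fin b → F}
    (φ₀ : Dual F (Fin b → F)) (h : φ₀ v₀ = 0) :
    MN M (((g : Module.End F (T F a b)) ∘ₗ pure v₀) ∘ₗ ev φ₀ ∘ₗ
      ((g⁻¹ : (Module.End F (T F a b))ˣ) : Module.End F (T F a b))) := by
  convert (hM.right v₀ φ₀ h).conj hg using 1
  exact LinearMap.ext fun x => by simp [te_apply]

theorem inv_apply_apply (g : (Module.End F (T F a b))ˣ) (x : T F a b) :
    ((g⁻¹ : (Module.End F (T F a b))ˣ) : Module.End F (T F a b)) ((g : Module.End F (T F a b)) x) = x := by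
  rw [← Module.End.mul_apply, Units.inv_mul, Module.End.one_apply]

theorem apply_inv_apply (g : (Module.End F (T F a b))ˣ) (x : T F a b) :
    (g : Module.End F (T F a b)) (((g⁻¹ : (Module.End F (T F a b))ˣ) : Module.End F (T F a b)) x) = x := by
  rw [← Module.End.mul_apply, Units.mul_inv, Module.End.one_apply]

theorem units_injective (g : (Module.End F (T F a b))ˣ) : Function.Injective (g : Module.End F (T F a b)) :=
  Function.LeftInverse.injective (inv_apply_apply g)

/-- The image of some `F^a ⊗ v₀` has deficient support. -/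
theorem Ov.of_image_supp (hM : Ov M) (hb : 3 ≤ b) {g : (Module.End F (T F a b))ˣ} (hg : g ∈ M)
    {v₀ : Fin b → F} (hv₀ : v₀ ≠ 0) (hnp : NotPure ((g : Module.End F (T F a b)) ∘ₗ pure v₀))
    {φ : Dual F (Fin b → F)} (hφ : φ ≠ 0) (hsupp : ev φ ∘ₗ ((g : Module.End F (T F a b)) ∘ₗ pure v₀) = 0) :
    HasNonScalar M := by
  by_contra hc
  have hinj : Function.Injective ((g : Module.End F (T F a b)) ∘ₗ pure (a := a) v₀) :=
    (units_injective g).comp (pure_injective hv₀)
  obtain ⟨v, hv0, hv, -⟩ := exists_vec_two hb φ φ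
  have hfin : ∀ {Y : (Fin a → F) →ₗ[F] T F a b}, Function.Injective Y →
      finrank F (LinearMap.range Y) = a := fun hY => by
    rw [LinearMap.finrank_range_of_inj hY, finrank_fin_fun]
  have hle : LinearMap.range (pure v) ≤ LinearMap.range ((g : Module.End F (T F a b)) ∘ₗ pure v₀) := by
    rintro _ ⟨u, rfl⟩
    obtain ⟨w, hw⟩ : ((g⁻¹ : (Module.End F (T F a b))ˣ) : Module.End F (T F a b)) (pure v u) ∈
        LinearMap.range (pure v₀) := by
      refine mem_range_pure fun φ₀ h₀ => ?_
      obtain ⟨s, hs⟩ := (hM.of_supp hb (mn_family hM hg φ₀ h₀) hφ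
        (by rw [← LinearMap.comp_assoc, hsupp, LinearMap.zero_comp]) v hv).resolve_left hc
      rcases eq_or_ne s 0 with rfl | hs0
      · have h2 := LinearMap.congr_fun hs u
        simp only [LinearMap.coe_comp, Function.comp_apply] at h2
        exact hinj (by rw [LinearMap.comp_apply, h2, map_zero]; exact funext fun i => funext fun j => by simp)
      · exfalso
        refine hnp s (le_of_eq (Submodule.eq_of_le_of_finrank_eq ?_ ?_).symm)
        · rw [← hs]; exact LinearMap.range_comp_le_range _ _ |>.trans (LinearMap.range_comp_le_range _ _)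
        · rw [hfin hinj, hfin (pure_injective hs0)]
    exact ⟨w, by rw [LinearMap.comp_apply, hw, apply_inv_apply]⟩
  exact hnp v (le_of_eq (Submodule.eq_of_le_of_finrank_eq hle
    (by rw [hfin hinj, hfin (pure_injective hv0)])).symm)

end Cfsg.Agent.H98.TensorGL
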