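import Mathlib
import Cfsg.Agent.H98.ExtField.Basic

/-!
Linear maps of `F^a ⊗ F^b`, the latter written as `a`-tuples of vectors of length `b`.
-/

set_option autoImplicit false

namespace Cfsg.Agent.H98.TensorGL

open Module Matrix Cfsg.Agent.H98.ExtField

variable {F : Type*} [Field F] {a b : ℕ}

/-- The space `F^a ⊗ F^b`. -/
abbrev T (F : Type*) (a b : ℕ) := Fin a → Fin b → F

/-- `u ↦ u ⊗ v`. -/
def pure (v : Fin b → F) : (Fin a → F) →ₗ[F] T F a b where
  toFun u i := u i • v
  map_add' u w := funext fun i => add_smul _ _ _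
  map_smul' c u := funext fun i => by simp [mul_smul]

/-- Contraction with a functional on the second factor. -/
def ev (φ : Dual F (Fin b → F)) : T F a b →ₗ[F] (Fin a → F) where
  toFun m i := φ (m i)
  map_add' m n := funext fun i => by simp
  map_smul' c m := funext fun i => by simp

/-- `x ⊗ 1`. -/
def lt (X : Matrix (Fin a) (Fin a) F) : Module.End F (T F a b) where
  toFun m i := ∑ k, X i k • m k
  map_add' m n := funext fun i => by simp [Finset.sum_add_distrib]
  map_smul' c m := funext fun i => by simp [Finset.smul_sum, smul_comm c]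

/-- `X ⊗ v φ`. -/
def te (X : Matrix (Fin a) (Fin a) F) (v : Fin b → F) (φ : Dual F (Fin b → F)) : Module.End F (T F a b) :=
  pure v ∘ₗ X.mulVecLin ∘ₗ ev φ

@[simp] theorem pure_apply (v : Fin b → F) (u : Fin a → F) (i : Fin a) : pure v u i = u i • v := rfl

@[simp] theorem ev_apply (φ : Dual F (Fin b → F)) (m : T F a b) (i : Fin a) : ev φ m i = φ (m i) := rfl

theorem te_apply (X : Matrix (Fin a) (Fin a) F) (v : Fin b → F) (φ : Dual F (Fin b → F)) (m : T F a b) :
    te X v φ m = pure v (X *ᵥ ev φ m) := rfl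

theorem ev_pure (φ : Dual F (Fin b → F)) (v : Fin b → F) (u : Fin a → F) : ev φ (pure v u) = φ v • u :=
  funext fun i => by simp [mul_comm]

theorem ev_lt (φ : Dual F (Fin b → F)) (X : Matrix (Fin a) (Fin a) F) (m : T F a b) :
    ev φ (lt X m) = X *ᵥ ev φ m :=
  funext fun i => by simp [lt, Matrix.mulVec, dotProduct]

theorem lt_pure (X : Matrix (Fin a) (Fin a) F) (v : Fin b → F) (u : Fin a → F) :
    lt X (pure v u) = pure v (X *ᵥ u) :=
  funext fun i => by simp [lt, Matrix.mulVec, dotProduct, smul_smul, Finset.sum_smul]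

theorem lt_mul (X Y : Matrix (Fin a) (Fin a) F) : (lt (X * Y) : Module.End F (T F a b)) = lt X * lt Y :=
  LinearMap.ext fun m => funext fun i => by
    simp only [lt, LinearMap.coe_mk, AddHom.coe_mk, Module.End.mul_apply, Matrix.mul_apply, Finset.sum_smul,
      Finset.smul_sum, smul_smul]
    exact Finset.sum_comm

theorem lt_one : (lt 1 : Module.End F (T F a b)) = 1 :=
  LinearMap.ext fun m => funext fun i => by simp [lt, Matrix.one_apply]

theorem lt_add (X Y : Matrix (Fin a) (Fin a) F) : (lt (X + Y) : Module.End F (T F a b)) = lt X + lt Y :=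
  LinearMap.ext fun m => funext fun i => by simp [lt, add_smul, Finset.sum_add_distrib]

theorem lt_smul (c : F) (X : Matrix (Fin a) (Fin a) F) : (lt (c • X) : Module.End F (T F a b)) = c • lt X :=
  LinearMap.ext fun m => funext fun i => by simp [lt, mul_smul, Finset.smul_sum]

theorem te_mul_te (X Y : Matrix (Fin a) (Fin a) F) (v w : Fin b → F) (φ χ : Dual F (Fin b → F)) :
    te X v φ * te Y w χ = φ w • te (X * Y) v χ :=
  LinearMap.ext fun m => by
    simp only [Module.End.mul_apply, te_apply, ev_pure, LinearMap.smul_apply, map_smul, Matrix.mulVec_smul,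
      Matrix.mulVec_mulVec]

theorem lt_mul_te (X Y : Matrix (Fin a) (Fin a) F) (v : Fin b → F) (φ : Dual F (Fin b → F)) :
    lt X * te Y v φ = te (X * Y) v φ :=
  LinearMap.ext fun m => by simp only [Module.End.mul_apply, te_apply, lt_pure, Matrix.mulVec_mulVec]

theorem te_mul_lt (X Y : Matrix (Fin a) (Fin a) F) (v : Fin b → F) (φ : Dual F (Fin b → F)) :
    te X v φ * lt Y = te (X * Y) v φ :=
  LinearMap.ext fun m => by simp only [Module.End.mul_apply, te_apply, ev_lt, Matrix.mulVec_mulVec]

theorem te_add (X Y : Matrix (Fin a) (Fin a) F) (v : Fin b → F) (φ : Dual F (Fin b → F)) :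
    te (X + Y) v φ = te X v φ + te Y v φ :=
  LinearMap.ext fun m => by simp only [LinearMap.add_apply, te_apply, Matrix.add_mulVec, map_add]

theorem te_sub (X Y : Matrix (Fin a) (Fin a) F) (v : Fin b → F) (φ : Dual F (Fin b → F)) :
    te (X - Y) v φ = te X v φ - te Y v φ :=
  LinearMap.ext fun m => by simp only [LinearMap.sub_apply, te_apply, Matrix.sub_mulVec, map_sub]

theorem te_smul (c : F) (X : Matrix (Fin a) (Fin a) F) (v : Fin b → F) (φ : Dual F (Fin b → F)) :
    te (c • X) v φ = c • te X v φ :=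
  LinearMap.ext fun m => by simp only [LinearMap.smul_apply, te_apply, Matrix.smul_mulVec, map_smul]

theorem te_smul_right (c : F) (X : Matrix (Fin a) (Fin a) F) (v : Fin b → F) (φ : Dual F (Fin b → F)) :
    te X v (c • φ) = te (c • X) v φ :=
  LinearMap.ext fun m => by
    rw [te_apply, te_apply, Matrix.smul_mulVec, ← Matrix.mulVec_smul]
    rfl

theorem te_zero_left (v : Fin b → F) (φ : Dual F (Fin b → F)) :
    te (0 : Matrix (Fin a) (Fin a) F) v φ = 0 :=
  LinearMap.ext fun m => by simp [te_apply]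

theorem te_zero_vec (X : Matrix (Fin a) (Fin a) F) (φ : Dual F (Fin b → F)) : te X 0 φ = 0 :=
  LinearMap.ext fun m => funext fun i => by simp [te_apply]

theorem te_zero_dual (X : Matrix (Fin a) (Fin a) F) (v : Fin b → F) : te X v (0 : Dual F (Fin b → F)) = 0 :=
  LinearMap.ext fun m => by
    rw [te_apply, show ev (0 : Dual F (Fin b → F)) m = 0 from funext fun i => rfl]
    simp

theorem eq_sum_pure (m : T F a b) : m = ∑ j, pure (Pi.single j 1) (fun i => m i j) :=
  funext fun i => funext fun j => by simp [Finset.sum_apply, Pi.single_apply]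

theorem pure_injective {v : Fin b → F} (hv : v ≠ 0) : Function.Injective (pure v : (Fin a → F) →ₗ[F] T F a b) :=
  fun _ _ h => funext fun i => smul_left_injective F hv (congrFun h i)

/-- An element killed by every functional that kills `v` lies in the range of `pure v`. -/
theorem mem_range_pure {v : Fin b → F} {m : T F a b}
    (h : ∀ φ : Dual F (Fin b → F), φ v = 0 → ev φ m = 0) : m ∈ LinearMap.range (pure v) := by
  have : ∀ i, m i ∈ Submodule.span F {v} := fun i => by
    by_contra hi
    obtain ⟨φ, hφ, hle⟩ := Submodule.exists_le_ker_of_notMem hi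
    exact hφ (congrFun (h φ (hle (Submodule.mem_span_singleton_self v))) i)
  choose u hu using fun i => Submodule.mem_span_singleton.1 (this i)
  exact ⟨u, funext fun i => hu i⟩

/-- Some non-zero functional kills two given vectors. -/
theorem exists_dual_two (hb : 3 ≤ b) (v w : Fin b → F) :
    ∃ φ : Dual F (Fin b → F), φ ≠ 0 ∧ φ v = 0 ∧ φ w = 0 := by
  classical
  have hlt : Submodule.span F ({v, w} : Set (Fin b → F)) < ⊤ := by
    refine Submodule.lt_top_of_finrank_lt_finrank ?_
    rw [finrank_fin_fun]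
    have := finrank_span_le_card (R := F) ({v, w} : Set (Fin b → F))
    have h2 : ({v, w} : Set (Fin b → F)).toFinset.card ≤ 2 := by simpa using Finset.card_le_two
    omega
  obtain ⟨φ, h0, hle⟩ := Submodule.exists_le_ker_of_lt_top _ hlt
  exact ⟨φ, h0, hle (Submodule.subset_span (by simp)), hle (Submodule.subset_span (by simp))⟩

/-- Some non-zero vector is killed by two given functionals. -/
theorem exists_vec_two (hb : 3 ≤ b) (φ χ : Dual F (Fin b → F)) :
    ∃ v : Fin b → F, v ≠ 0 ∧ φ v = 0 ∧ χ v = 0 := by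
  have h := LinearMap.ker_ne_bot_of_finrank_lt (f := φ.prod χ)
    (by rw [finrank_prod, finrank_self, finrank_fin_fun]; omega)
  obtain ⟨v, hv, hv0⟩ := Submodule.exists_mem_ne_zero_of_ne_bot h
  exact ⟨v, hv0, congrArg Prod.fst hv, congrArg Prod.snd hv⟩

/-- If the kernel of `φ'` lies in that of `φ`, the functionals are proportional. -/
theorem eq_smul_of_ker_le {φ φ' : Dual F (Fin b → F)} (hφ' : φ' ≠ 0) (h : ∀ v, φ' v = 0 → φ v = 0) :
    ∃ t : F, φ = t • φ' := by
  obtain ⟨u, hu⟩ : ∃ u, φ' u = 1 := by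
    obtain ⟨u, hu⟩ := not_forall.1 fun h0 => hφ' (LinearMap.ext h0)
    exact ⟨(φ' u)⁻¹ • u, by rw [map_smul, smul_eq_mul, inv_mul_cancel₀ hu]⟩
  refine ⟨φ u, LinearMap.ext fun x => ?_⟩
  have := h (x - φ' x • u) (by simp [hu])
  rw [map_sub, map_smul, sub_eq_zero] at this
  rw [this, LinearMap.smul_apply, smul_eq_mul, smul_eq_mul, mul_comm]

/-- `MN` of the difference of the two products when the alternating triple products vanish. -/
theorem MN.bracket {V : Type*} [AddCommGroup V] [Module F V] {M : Subgroup (Module.End F V)ˣ}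
    {A N : Module.End F V} (hA : MN M A) (hN : MN M N) (h1 : A * N * A = 0) (h2 : N * A * N = 0) :
    MN M (A * N - N * A) := by
  obtain ⟨hA2, u, hu, huA⟩ := hA
  obtain ⟨hN2, w, hw, hwN⟩ := hN
  have z1 : ∀ X : Module.End F V, A * (A * X) = 0 := fun X => by rw [← mul_assoc, hA2, zero_mul]
  have z2 : ∀ X : Module.End F V, N * (N * X) = 0 := fun X => by rw [← mul_assoc, hN2, zero_mul]
  have h1' : A * (N * A) = 0 := by rwa [← mul_assoc]
  have h2' : N * (A * N) = 0 := by rwa [← mul_assoc]
  refine ⟨?_, u * w * u⁻¹ * w⁻¹,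
    M.mul_mem (M.mul_mem (M.mul_mem hu hw) (M.inv_mem hu)) (M.inv_mem hw), ?_⟩
  · simp only [sub_mul, mul_sub, mul_assoc, z1, z2, h1', h2', mul_zero, sub_zero]
  · rw [Units.val_mul, Units.val_mul, Units.val_mul, coe_inv_of_eq hA2 huA, coe_inv_of_eq hN2 hwN, huA, hwN]
    simp only [add_mul, mul_add, sub_mul, mul_sub, one_mul, mul_one, mul_assoc, hA2, hN2, h1', h2', mul_zero,
      add_zero]
    abel

end Cfsg.Agent.H98.TensorGL
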