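import Cfsg.Agent.H98.TensorGL.Pairs

/-!
A non-scalar matrix in `InL` gives all elementary transvections of the tensor product.
-/

set_option autoImplicit false

namespace Cfsg.Agent.H98.TensorGL

open Module Matrix Cfsg.Agent.H98.ExtField

variable {F : Type*} [Field F] {a b : ℕ}

theorem exists_ne_ne {n : ℕ} (hn : 3 ≤ n) (p q : Fin n) : ∃ m : Fin n, m ≠ p ∧ m ≠ q := by
  have h : 0 < (({p, q} : Finset (Fin n))ᶜ).card := by
    rw [Finset.card_compl, Fintype.card_fin]
    have := Finset.card_le_two (a := p) (b := q)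
    omega
  obtain ⟨m, hm⟩ := Finset.card_pos.1 h
  exact ⟨m, by simpa using hm⟩

/-- A space of matrices stable under conjugation by transvections with a non-scalar member contains every
off-diagonal matrix unit. -/
theorem single_mem (S : Submodule F (Matrix (Fin a) (Fin a) F))
    (hS : ∀ c ψ : Fin a → F, ψ ⬝ᵥ c = 0 → ∀ X ∈ S, (1 + vecMulVec c ψ) * X * (1 - vecMulVec c ψ) ∈ S)
    (hq : 3 ≤ a ∨ ∃ t : F, t ≠ 0 ∧ t ≠ 1) {X : Matrix (Fin a) (Fin a) F} (hX : X ∈ S)
    (hns : ∀ t : F, X ≠ t • 1) (i j : Fin a) (hij : i ≠ j) :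
    single i j (1 : F) ∈ S := by
  have hD : ∀ c ψ : Fin a → F, ψ ⬝ᵥ c = 0 → ∀ Y ∈ S,
      vecMulVec c ψ * Y - Y * vecMulVec c ψ - vecMulVec c ψ * Y * vecMulVec c ψ ∈ S := by
    intro c ψ h Y hY
    convert S.sub_mem (hS c ψ h Y hY) hY using 1
    noncomm_ring
  have hvv : ∀ (k l : Fin a) (t : F), vecMulVec (Pi.single k t) (Pi.single l 1) = single k l t := fun k l t => by
    ext r s
    simp only [vecMulVec_apply, Pi.single_apply, single_apply]
    aesop
  have hD1 : ∀ (k l : Fin a) (t : F), k ≠ l → ∀ Y ∈ S,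
      single k l t * Y - Y * single k l t - single k l t * Y * single k l t ∈ S := by
    intro k l t hkl Y hY
    simpa only [hvv] using hD (Pi.single k t) (Pi.single l 1) (by simp [hkl.symm]) Y hY
  have core : ∀ Y ∈ S, ∀ k l : Fin a, k ≠ l → Y l k ≠ 0 → single k l (1 : F) ∈ S := by
    intro Y hY k l hkl hne
    have hEE : ∀ t u : F, single k l t * Y * single k l u = single k l (t * Y l k * u) := fun t u =>
      single_mul_mul_single ..
    suffices ∃ c : F, c ≠ 0 ∧ single k l c ∈ S by
      obtain ⟨c, hc, hc'⟩ := this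
      have := S.smul_mem c⁻¹ hc'
      rwa [smul_single, smul_eq_mul, inv_mul_cancel₀ hc] at this
    rcases hq with ha | ⟨t, ht0, ht1⟩
    · obtain ⟨m, hmk, hml⟩ := exists_ne_ne ha k l
      have h1 := hD1 k l 1 hkl Y hY
      have h2 := hD1 k m 1 hmk.symm Y hY
      have h3 := hD (Pi.single k 1) (Pi.single l 1 + Pi.single m 1) (by simp [hkl.symm, hmk]) Y hY
      rw [vecMulVec_add, hvv, hvv] at h3
      have h4 : single k m (Y l k) + single k l (Y m k) ∈ S := by
        convert S.sub_mem (S.add_mem h1 h2) h3 using 1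
        rw [show single k m (Y l k) = single k l 1 * Y * single k m 1 by rw [single_mul_mul_single]; simp,
          show single k l (Y m k) = single k m 1 * Y * single k l 1 by rw [single_mul_mul_single]; simp]
        noncomm_ring
      have h5 := hD1 m l 1 hml _ h4
      refine ⟨Y l k, hne, ?_⟩
      have e1 : single m l (1 : F) * (single k m (Y l k) + single k l (Y m k)) = 0 := by
        rw [mul_add, single_mul_single_of_ne _ _ _ _ hkl.symm, single_mul_single_of_ne _ _ _ _ hkl.symm, add_zero]
      have e2 : (single k m (Y l k) + single k l (Y m k)) * single m l (1 : F) = single k l (Y l k) := by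
        rw [add_mul, single_mul_single_same, single_mul_single_of_ne _ _ _ _ hml.symm, add_zero, mul_one]
      rw [e1, e2, zero_mul, zero_sub, sub_zero] at h5
      simpa using S.neg_mem h5
    · have h1 := hD1 k l 1 hkl Y hY
      have h2 := hD1 k l t hkl Y hY
      refine ⟨(1 - t) * (t * Y l k), mul_ne_zero (sub_ne_zero.2 ht1.symm) (mul_ne_zero ht0 hne), ?_⟩
      convert S.sub_mem h2 (S.smul_mem t h1) using 1
      rw [hEE, hEE, show single k l t = t • single k l (1 : F) by rw [smul_single, smul_eq_mul, mul_one],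
        smul_mul, Matrix.mul_smul, smul_sub, smul_sub, smul_single, smul_eq_mul]
      rw [show ∀ A B C D : Matrix (Fin a) (Fin a) F, A - B - C - (A - B - D) = D - C from fun A B C D => by abel,
        eq_sub_iff_add_eq, ← single_add]
      congr 1
      ring
  obtain ⟨k, l, hkl, hmem⟩ : ∃ k l : Fin a, k ≠ l ∧ single k l (1 : F) ∈ S := by
    by_cases hdiag : ∃ k l, k ≠ l ∧ X l k ≠ 0
    · obtain ⟨k, l, hkl, hne⟩ := hdiag
      exact ⟨k, l, hkl, core X hX k l hkl hne⟩
    push Not at hdiag
    by_cases hval : ∀ k, X k k = X i i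
    · refine absurd (Matrix.ext fun r s => ?_) (hns (X i i))
      rcases eq_or_ne r s with rfl | hrs
      · simp [hval]
      · simp [hrs, hdiag s r hrs.symm]
    push Not at hval
    obtain ⟨k, hk⟩ := hval
    have hki : k ≠ i := fun h => hk (h ▸ rfl)
    refine ⟨k, i, hki, ?_⟩
    have h1 := hD1 k i 1 hki X hX
    rw [single_mul_mul_single, hdiag k i hki, mul_zero, zero_mul, single_zero, sub_zero] at h1
    have h2 : single k i (1 : F) * X - X * single k i 1 = (X i i - X k k) • single k i (1 : F) := by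
      refine Matrix.ext fun r s => ?_
      rcases eq_or_ne r k with rfl | hr <;> rcases eq_or_ne s i with rfl | hs
      · simp
      · simp [hs, hs.symm, hdiag s i hs]
      · simp [hr, hr.symm, hdiag k r hr.symm]
      · simp [hr, hs, hr.symm, hs.symm]
    rw [h2] at h1
    have := S.smul_mem (X i i - X k k)⁻¹ h1
    rwa [smul_smul, inv_mul_cancel₀ (sub_ne_zero.2 (Ne.symm hk)), one_smul] at this
  have hswap : ∀ k l : Fin a, k ≠ l → single k l (1 : F) ∈ S → single l k (1 : F) ∈ S := fun k l hkl h =>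
    core _ h l k hkl.symm (by simp)
  have hrow : ∀ k l m : Fin a, k ≠ l → m ≠ l → single k l (1 : F) ∈ S → single m l (1 : F) ∈ S := by
    intro k l m hkl hml h
    rcases eq_or_ne m k with rfl | hmk
    · exact h
    have := hD1 m k 1 hmk _ h
    rwa [single_mul_single_same, mul_one, single_mul_single_of_ne _ _ _ _ hml.symm,
      single_mul_single_of_ne _ _ _ _ hml.symm, sub_zero, sub_zero] at this
  have hcol : ∀ k l m : Fin a, k ≠ l → k ≠ m → single k l (1 : F) ∈ S → single k m (1 : F) ∈ S := by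
    intro k l m hkl hkm h
    rcases eq_or_ne l m with rfl | hlm
    · exact h
    have := hD1 l m 1 hlm _ h
    rw [single_mul_single_same, mul_one, single_mul_single_of_ne _ _ _ _ hkm.symm, zero_sub, zero_mul, sub_zero]
      at this
    simpa using S.neg_mem this
  rcases eq_or_ne i l with rfl | hil
  · exact hcol i k j hkl.symm hij (hswap k i hkl hmem)
  · exact hcol i l j hil hij (hrow k l i hkl hil hmem)

variable {M : Subgroup (Module.End F (T F a b))ˣ}

/-- An elementary map of `F^a ⊗ F^b`. -/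
def elm (p q : Fin a × Fin b) (c : F) : Module.End F (T F a b) :=
  te (single p.1 q.1 c) (Pi.single p.2 1) (LinearMap.proj q.2)

theorem elm_mul_same (p q r : Fin a × Fin b) (c d : F) :
    elm p q c * elm q r d = elm p r (c * d) := by
  simp [elm, te_mul_te]

theorem elm_mul_ne {p q r s : Fin a × Fin b} (h : q ≠ r) (c d : F) : elm p q c * elm r s d = 0 := by
  simp only [elm, te_mul_te, LinearMap.proj_apply, Pi.single_apply]
  split_ifs with h2
  · rw [one_smul, single_mul_single_of_ne _ _ _ _ (fun h1 => h (Prod.ext h1 h2)), te_zero_left]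
  · rw [zero_smul]

theorem Ov.mn_elm (hM : Ov M) (ha : 2 ≤ a) (hb : 3 ≤ b) (hq : 3 ≤ a ∨ ∃ t : F, t ≠ 0 ∧ t ≠ 1)
    {X : Matrix (Fin a) (Fin a) F} (hX : InL M X) (hns : ∀ t : F, X ≠ t • 1)
    (p q : Fin a × Fin b) (hpq : p ≠ q) (c : F) : MN M (elm p q c) := by
  let S : Submodule F (Matrix (Fin a) (Fin a) F) :=
    { carrier := {Y | InL M Y}
      add_mem' := fun h1 h2 => InL.add h1 h2
      zero_mem' := fun v φ hv => by rw [te_zero_left]; exact MN.zero
      smul_mem' := fun c Y h => InL.smul hM hb h c }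
  have hboth : ∀ (p q : Fin a × Fin b), p.1 ≠ q.1 → p.2 ≠ q.2 → ∀ c : F, MN M (elm p q c) := by
    intro p q h1 h2 c
    have := S.smul_mem c (single_mem S (fun c ψ h Y hY => InL.conj hM hY h) hq hX hns p.1 q.1 h1)
    rw [smul_single, smul_eq_mul, mul_one] at this
    exact this _ _ (by simp [h2.symm])
  have hrow : ∀ (p q : Fin a × Fin b), p.2 ≠ q.2 → ∀ c : F, MN M (elm p q c) := by
    intro p q h2 c
    by_cases h1 : p.1 = q.1
    · have : Nontrivial (Fin a) := Fin.nontrivial_iff_two_le.2 ha
      obtain ⟨k, hk⟩ := exists_ne p.1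
      obtain ⟨m, hm⟩ := exists_ne_ne hb p.2 q.2
      have hne : q ≠ p := fun h => h2 (by rw [h])
      have := MN.comm (hboth (k, m) q (by rw [← h1]; exact hk) hm.2 1) (hboth p (k, m) hk.symm (Ne.symm hm.1) c)
        (elm_mul_ne hne _ _)
      rwa [elm_mul_same, mul_one] at this
    · exact hboth p q h1 h2 c
  by_cases h2 : p.2 = q.2
  · have h1 : p.1 ≠ q.1 := fun h => hpq (Prod.ext h h2)
    have : Nontrivial (Fin b) := Fin.nontrivial_iff_two_le.2 (by omega)
    obtain ⟨m, hm⟩ := exists_ne p.2
    have := MN.comm (hboth (p.1, m) q h1 (by rw [← h2]; exact hm) 1) (hrow p (p.1, m) (Ne.symm hm) c)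
      (elm_mul_ne hpq.symm _ _)
    rwa [elm_mul_same, mul_one] at this
  · exact hrow p q h2 c

end Cfsg.Agent.H98.TensorGL
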