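import Cfsg.Agent.H98.TensorGL.Shift

/-!
The last step of the shifting argument, and the transvections in an overgroup that does not respect the
decomposition.
-/

set_option autoImplicit false

namespace Cfsg.Agent.H98.TensorGL

open Module Matrix Cfsg.Agent.H98.ExtField

variable {F : Type*} [Field F] {a b : ℕ} {M : Subgroup (Module.End F (T F a b))ˣ}
  {g : (Module.End F (T F a b))ˣ} {v₀ v₁ : Fin b → F}

theorem comp_pure_eq_zero {N : Module.End F (T F a b)} {v : Fin b → F} {W : Submodule F (Fin a → F)}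
    {v₁ : Fin b → F} (hW : W ≠ ⊤) (hN : LinearMap.range N ≤ W.map (pure v₁)) {s : Fin b → F}
    (hs : N ∘ₗ pure v = pure s) : N ∘ₗ pure v = 0 := by
  rcases eq_or_ne s 0 with rfl | hs0
  · rw [hs]; exact LinearMap.ext fun u => funext fun i => funext fun j => by simp
  exfalso
  have hle : LinearMap.range (pure (a := a) s) ≤ W.map (pure v₁) := by
    rw [← hs]; exact (LinearMap.range_comp_le_range _ _).trans hN
  have h1 := Submodule.finrank_mono hle
  rw [LinearMap.finrank_range_of_inj (pure_injective hs0), finrank_fin_fun] at h1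
  have h2 := Submodule.finrank_map_le (pure v₁) W
  have h3 := Submodule.finrank_lt hW
  rw [finrank_fin_fun] at h3
  omega

/-- The last step: the intersection is a hyperplane and the rows of `p` with `v₁` form a basis. -/
theorem Ov.endpoint (hM : Ov M) (hb : 3 ≤ b) (hb1 : b = a + 1) (ha3 : 3 ≤ a) (hg : g ∈ M) (hv₀ : v₀ ≠ 0)
    (hv₁ : v₁ ≠ 0) {u : Fin a → F}
    (hu : (g : Module.End F (T F a b)) (pure v₀ u) ∉ LinearMap.range (pure v₁))
    (hd : finrank F (coeff ((g : Module.End F (T F a b)) ∘ₗ pure v₀) v₁) + 1 = a)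
    (hdual : ∀ w : Fin a → F, ∃ φ : Dual F (Fin b → F),
      ev φ ((g : Module.End F (T F a b)) (pure v₀ u)) = w ∧ φ v₁ = 0) :
    HasNonScalar M := by
  set Y := (g : Module.End F (T F a b)) ∘ₗ pure v₀ with hY
  set W := coeff Y v₁ with hW
  set p := (g : Module.End F (T F a b)) (pure v₀ u) with hp
  have hYinj : Function.Injective Y := injective_image g hv₀
  have hWtop : W ≠ ⊤ := fun h => by rw [h, finrank_top, finrank_fin_fun] at hd; omega
  have hspanY : ∀ m ∈ LinearMap.range Y, ∃ (r : F) (z : Fin a → F), z ∈ W ∧ m = r • p + pure v₁ z := by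
    intro m hm
    have hle : W.map (pure v₁) ⊔ Submodule.span F {p} ≤ LinearMap.range Y :=
      sup_le (Submodule.map_comap_le _ _) ((Submodule.span_singleton_le_iff_mem _ _).2 ⟨u, rfl⟩)
    have heq : W.map (pure v₁) ⊔ Submodule.span F {p} = LinearMap.range Y := by
      refine Submodule.eq_of_le_of_finrank_le hle ?_
      have hlt : W.map (pure v₁) < W.map (pure v₁) ⊔ Submodule.span F {p} :=
        left_lt_sup.2 fun h => hu (by
          obtain ⟨z, -, hz⟩ := h (Submodule.mem_span_singleton_self p)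
          exact ⟨z, hz⟩)
      have h1 := Submodule.finrank_lt_finrank_of_lt hlt
      rw [← (Submodule.equivMapOfInjective _ (pure_injective hv₁) W).finrank_eq] at h1
      rw [LinearMap.finrank_range_of_inj hYinj, finrank_fin_fun]
      omega
    obtain ⟨x, hx, y, hy, rfl⟩ := Submodule.mem_sup.1 (heq.ge hm)
    obtain ⟨z, hz, rfl⟩ := hx
    obtain ⟨r, rfl⟩ := Submodule.mem_span_singleton.1 hy
    exact ⟨r, z, hz, add_comm _ _⟩
  obtain ⟨w₂, hw₂, hw₂0⟩ : ∃ w ∈ W, w ≠ 0 := Submodule.exists_mem_ne_zero_of_ne_bot fun h => by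
    rw [h, finrank_bot] at hd; omega
  obtain ⟨wA, hwA, hwA2⟩ : ∃ w ∈ W, w ∉ Submodule.span F {w₂} := by
    refine SetLike.not_le_iff_exists.1 fun h => ?_
    have h1 := Submodule.finrank_mono h
    rw [finrank_span_singleton hw₂0] at h1
    omega
  obtain ⟨c, hc⟩ : ∃ c, c ∉ W := by
    by_contra h
    push Not at h
    exact hWtop (Submodule.eq_top_iff'.2 h)
  obtain ⟨φ, hφp, hφv⟩ := hdual wA
  have hw₂Y : pure v₁ w₂ ∈ LinearMap.range Y := hw₂
  obtain ⟨u₂, hu₂⟩ := hw₂Y
  let gi : Module.End F (T F a b) := ((g⁻¹ : (Module.End F (T F a b))ˣ) : Module.End F (T F a b))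
  obtain ⟨φ₀, t, hφ₀, hφ₀0, hNc⟩ : ∃ (φ₀ : Dual F (Fin b → F)) (t : F), φ₀ ≠ 0 ∧ φ₀ v₀ = 0 ∧
      ev φ₀ (gi (pure v₁ c)) = t • u₂ := by
    let f : (Dual F (Fin b → F) × F) →ₗ[F] F × (Fin a → F) :=
      { toFun := fun x => (x.1 v₀, ev x.1 (gi (pure v₁ c)) - x.2 • u₂)
        map_add' := fun x y => Prod.ext (by simp) (funext fun i => by simp [add_smul]; abel)
        map_smul' := fun r x => Prod.ext (by simp) (funext fun i => by simp [mul_sub, mul_assoc]) }
    obtain ⟨⟨φ₀, t⟩, hx, hx0⟩ := Submodule.exists_mem_ne_zero_of_ne_bot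
      (LinearMap.ker_ne_bot_of_finrank_lt (f := f)
        (by rw [finrank_prod, finrank_prod, finrank_self, Subspace.dual_finrank_eq, finrank_fin_fun,
              finrank_fin_fun]; omega))
    refine ⟨φ₀, t, fun h => ?_, congrArg Prod.fst hx, sub_eq_zero.1 (congrArg Prod.snd hx)⟩
    subst h
    have h2 := congrArg Prod.snd hx
    simp only [f, LinearMap.coe_mk, AddHom.coe_mk, Prod.snd_zero] at h2
    rw [show ev (0 : Dual F (Fin b → F)) (gi (pure v₁ c)) = 0 from funext fun i => rfl, zero_sub, neg_eq_zero,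
      smul_eq_zero] at h2
    rcases h2 with rfl | h2
    · exact hx0 rfl
    · rw [h2, map_zero] at hu₂
      exact hw₂0 (pure_injective hv₁ (by rw [map_zero, ← hu₂]))
  set N : Module.End F (T F a b) := Y ∘ₗ ev φ₀ ∘ₗ gi with hN
  have hmnN : MN M N := mn_family hM hg φ₀ hφ₀0
  set A : Module.End F (T F a b) := te 1 v₁ φ with hA
  have hA' : ∀ m, A m = pure v₁ (ev φ m) := te_one_apply v₁ φ
  have hAW : ∀ z, A (pure v₁ z) = 0 := fun z => by rw [hA', ev_pure, hφv, zero_smul, map_zero]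
  have hAp : A p = pure v₁ wA := by rw [hA', hφp]
  have hNY : ∀ x, N (Y x) = 0 := fun x => by
    show Y (ev φ₀ (gi ((g : Module.End F (T F a b)) (pure v₀ x)))) = 0
    rw [inv_apply_apply, ev_pure, hφ₀0, zero_smul, map_zero]
  have hNc' : N (pure v₁ c) = t • pure v₁ w₂ := by
    show Y (ev φ₀ (gi (pure v₁ c))) = _
    rw [hNc, map_smul, hu₂]
  have hAN : ∀ x, ∃ r : F, A (N x) = r • pure v₁ wA := fun x => by
    obtain ⟨r, z, -, he⟩ := hspanY (N x) ⟨_, rfl⟩
    exact ⟨r, by rw [he, map_add, map_smul, hAp, hAW, add_zero]⟩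
  have hNA : ∀ x, ∃ r : F, N (A x) = r • pure v₁ w₂ := fun x => by
    rw [hA']
    have htop : W ⊔ Submodule.span F {c} = ⊤ := by
      refine Submodule.eq_top_of_finrank_eq (le_antisymm (Submodule.finrank_le _) ?_)
      have hlt : W < W ⊔ Submodule.span F {c} :=
        left_lt_sup.2 fun h => hc (h (Submodule.mem_span_singleton_self c))
      have := Submodule.finrank_lt_finrank_of_lt hlt
      rw [finrank_fin_fun]
      omega
    obtain ⟨z, hz, y, hy, he⟩ := Submodule.mem_sup.1 (htop.ge (Submodule.mem_top (x := ev φ x)))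
    obtain ⟨r, rfl⟩ := Submodule.mem_span_singleton.1 hy
    obtain ⟨x', hx'⟩ := hz
    refine ⟨r * t, ?_⟩
    rw [← he, map_add, map_add, map_smul, map_smul, hNc', ← hx', hNY, zero_add, smul_smul]
  have hmem₂ : pure v₁ w₂ ∈ LinearMap.range Y := ⟨u₂, hu₂⟩
  have h1 : A * N * A = 0 := LinearMap.ext fun x => by
    obtain ⟨r, hr⟩ := hNA x
    rw [Module.End.mul_apply, Module.End.mul_apply, hr, map_smul, hAW, smul_zero, LinearMap.zero_apply]
  have h2 : N * A * N = 0 := LinearMap.ext fun x => by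
    obtain ⟨r, hr⟩ := hAN x
    obtain ⟨x', hx'⟩ : pure v₁ wA ∈ LinearMap.range Y := hwA
    rw [Module.End.mul_apply, Module.End.mul_apply, hr, map_smul, ← hx', hNY, smul_zero, LinearMap.zero_apply]
  have hC := MN.bracket (hM.right v₁ φ hφv) hmnN h1 h2
  have hCW : LinearMap.range (A * N - N * A) ≤ W.map (pure v₁) := by
    rintro _ ⟨x, rfl⟩
    obtain ⟨r, hr⟩ := hAN x
    obtain ⟨r', hr'⟩ := hNA x
    rw [LinearMap.sub_apply, Module.End.mul_apply, Module.End.mul_apply, hr, hr']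
    exact Submodule.sub_mem _ (Submodule.smul_mem _ _ (Submodule.mem_map_of_mem hwA))
      (Submodule.smul_mem _ _ (Submodule.mem_map_of_mem hw₂))
  by_contra hns
  have hzero : ∀ v, (A * N - N * A) ∘ₗ pure v = 0 := fun v => by
    obtain ⟨φ', hφ', hv1', hv'⟩ := exists_dual_two hb v₁ v
    have hev : ev φ' ∘ₗ (A * N - N * A) = 0 := LinearMap.ext fun x => by
      obtain ⟨z, -, hz⟩ := hCW ⟨x, rfl⟩
      rw [LinearMap.comp_apply, ← hz, ev_pure, hv1', zero_smul, LinearMap.zero_apply]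
    obtain ⟨s, hs⟩ := (hM.of_supp hb hC hφ' hev v hv').resolve_left hns
    exact comp_pure_eq_zero hWtop hCW hs
  obtain ⟨w, hw⟩ : ∃ w, φ₀ w = 1 := by
    obtain ⟨w, hw⟩ := not_forall.1 fun hz => hφ₀ (LinearMap.ext hz)
    exact ⟨(φ₀ w)⁻¹ • w, by rw [map_smul, smul_eq_mul, inv_mul_cancel₀ hw]⟩
  set x := (g : Module.End F (T F a b)) (pure w u) with hx
  have hNx : N x = p := by
    show Y (ev φ₀ (gi ((g : Module.End F (T F a b)) (pure w u)))) = p
    rw [inv_apply_apply, ev_pure, hw, one_smul]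
    rfl
  have hCx : (A * N - N * A) x = 0 := by
    rw [eq_sum_pure x, map_sum]
    exact Finset.sum_eq_zero fun j _ => LinearMap.congr_fun (hzero _) _
  obtain ⟨r, hr⟩ := hNA x
  rw [LinearMap.sub_apply, Module.End.mul_apply, Module.End.mul_apply, hNx, hAp, hr, sub_eq_zero,
    ← map_smul] at hCx
  exact hwA2 (Submodule.mem_span_singleton.2 ⟨r, (pure_injective hv₁ hCx).symm⟩)

/-- An element of `M` that does not respect the decomposition gives a non-scalar matrix in `InL`. -/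
theorem Ov.hasNonScalar (hM : Ov M) (ha : 2 ≤ a) (hab : a < b) (hsmall : b = a + 1 → 3 ≤ a) :
    ∀ (k : ℕ) {g : (Module.End F (T F a b))ˣ} {v₀ v₁ : Fin b → F}, g ∈ M → v₀ ≠ 0 → v₁ ≠ 0 →
      NotPure ((g : Module.End F (T F a b)) ∘ₗ pure v₀) →
      a ≤ finrank F (coeff ((g : Module.End F (T F a b)) ∘ₗ pure v₀) v₁) + k → HasNonScalar M := by
  have hb : 3 ≤ b := by omega
  intro k
  induction k with
  | zero =>
    intro g v₀ v₁ hg hv₀ hv₁ hnp hk
    have := finrank_coeff_lt hv₀ hv₁ hnp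
    omega
  | succ k ih =>
    intro g v₀ v₁ hg hv₀ hv₁ hnp hk
    by_contra hns
    have hlt := finrank_coeff_lt hv₀ hv₁ hnp
    set Y := (g : Module.End F (T F a b)) ∘ₗ pure v₀ with hY
    set W := coeff Y v₁ with hW
    have hstep : (∃ g' ∈ M, NotPure ((g' : Module.End F (T F a b)) ∘ₗ pure v₀) ∧
        finrank F W < finrank F (coeff ((g' : Module.End F (T F a b)) ∘ₗ pure v₀) v₀)) → False := by
      rintro ⟨g', hg', hnp', hd'⟩
      exact hns (ih hg' hv₀ hv₀ hnp' (by omega))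
    by_cases hdef : ∃ u, Y u ∉ LinearMap.range (pure v₁) ∧ ∃ φ : Dual F (Fin b → F), φ ≠ 0 ∧
        ev φ (Y u) = 0 ∧ (W = ⊥ ∨ φ v₁ = 0)
    · obtain ⟨u, hu, φ, hφ, hφp, hφW⟩ := hdef
      refine hstep (hM.shift_deficient hb hab hg hv₀ hv₁ hnp hns hu hφ hφp fun w hw => ?_)
      rcases hφW with h | h
      · rw [(Submodule.eq_bot_iff W).1 h w hw, smul_zero]
      · rw [h, zero_smul]
    push Not at hdef
    obtain ⟨u, hu⟩ : ∃ u, Y u ∉ LinearMap.range (pure v₁) := by
      by_contra hc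
      push Not at hc
      exact hnp v₁ (by rintro _ ⟨x, rfl⟩; exact hc x)
    let f : ∀ u : Fin a → F, Dual F (Fin b → F) →ₗ[F] (Fin a → F) × F := fun u =>
      { toFun := fun φ => (ev φ (Y u), φ v₁)
        map_add' := fun φ χ => rfl
        map_smul' := fun r φ => rfl }
    have hfinj : ∀ u, Y u ∉ LinearMap.range (pure v₁) → Function.Injective (f u) := fun u hu => by
      refine (injective_iff_map_eq_zero _).2 fun φ hφ => by_contra fun h0 => ?_
      exact (hdef u hu φ h0 (congrArg Prod.fst hφ)).2 (congrArg Prod.snd hφ)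
    have hW0 : W ≠ ⊥ := by
      obtain ⟨φ, hφ, h0⟩ := Submodule.exists_mem_ne_zero_of_ne_bot
        (LinearMap.ker_ne_bot_of_finrank_lt (f := (LinearMap.fst F _ _).comp (f u))
          (by rw [Subspace.dual_finrank_eq, finrank_fin_fun, finrank_fin_fun]; exact hab))
      exact (hdef u hu φ h0 hφ).1
    have hb1 : b = a + 1 := by
      have := LinearMap.finrank_le_finrank_of_injective (hfinj u hu)
      rw [Subspace.dual_finrank_eq, finrank_prod, finrank_fin_fun, finrank_fin_fun, finrank_self] at this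
      omega
    have hdual : ∀ u, Y u ∉ LinearMap.range (pure v₁) →
        ∀ w, ∃ φ : Dual F (Fin b → F), ev φ (Y u) = w ∧ φ v₁ = 0 := fun u hu w => by
      obtain ⟨φ, hφ⟩ := (LinearMap.injective_iff_surjective_of_finrank_eq_finrank
        (by rw [Subspace.dual_finrank_eq, finrank_prod, finrank_fin_fun, finrank_fin_fun, finrank_self, hb1])).1
        (hfinj u hu) (w, 0)
      exact ⟨φ, congrArg Prod.fst hφ, congrArg Prod.snd hφ⟩
    rcases Nat.lt_or_ge (finrank F W + 1) a with hlast | hlast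
    · refine hstep (hM.shift_spanning hg hv₀ hv₁ (by rw [← hY, ← hW]; omega) (hsmall hb1) ?_ ?_)
      · rintro _ ⟨x, rfl⟩ hx φ hφ hφv
        exact by_contra fun h0 => (hdef x hx φ h0 hφ).2 hφv
      · rintro _ ⟨x, rfl⟩ hx
        exact hdual x hx
    · exact hns (hM.endpoint hb hb1 (hsmall hb1) hg hv₀ hv₁ hu (by rw [← hY, ← hW]; omega) (hdual u hu))

/-- All elementary maps lie in an overgroup with an element that moves some `F^a ⊗ v₀` off its class. -/
theorem Ov.mn_elm_of_notPure (hM : Ov M) (ha : 2 ≤ a) (hab : a < b) (hsmall : b = a + 1 → 3 ≤ a)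
    (hq : 3 ≤ a ∨ ∃ t : F, t ≠ 0 ∧ t ≠ 1) (hg : g ∈ M) (hv₀ : v₀ ≠ 0)
    (hnp : NotPure ((g : Module.End F (T F a b)) ∘ₗ pure v₀)) (p q : Fin a × Fin b) (hpq : p ≠ q) (c : F) :
    MN M (elm p q c) := by
  obtain ⟨X, hX, hns⟩ := hM.hasNonScalar ha hab hsmall a hg hv₀ hv₀ hnp (Nat.le_add_left _ _)
  exact hM.mn_elm ha (by omega) hq hX hns p q hpq c

end Cfsg.Agent.H98.TensorGL
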