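import Cfsg.Agent.H98.TensorGL.Basic

/-!
The matrices `X` with `1 + X ⊗ v φ` in an overgroup, for all `v` and all `φ` killing `v`.
-/

set_option autoImplicit false

namespace Cfsg.Agent.H98.TensorGL

open Module Matrix Cfsg.Agent.H98.ExtField

variable {F : Type*} [Field F] {a b : ℕ}

/-- The group contains the square-zero generators of both factors. -/
structure Ov (M : Subgroup (Module.End F (T F a b))ˣ) : Prop where
  right : ∀ (v : Fin b → F) (φ : Dual F (Fin b → F)), φ v = 0 →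
    MN M (te (1 : Matrix (Fin a) (Fin a) F) v φ)
  left : ∀ c ψ : Fin a → F, ψ ⬝ᵥ c = 0 → MN M (lt (vecMulVec c ψ))

/-- `1 + X ⊗ v φ` lies in `M` for all `v` and all `φ` killing `v`. -/
def InL (M : Subgroup (Module.End F (T F a b))ˣ) (X : Matrix (Fin a) (Fin a) F) : Prop :=
  ∀ (v : Fin b → F) (φ : Dual F (Fin b → F)), φ v = 0 → MN M (te X v φ)

variable {M : Subgroup (Module.End F (T F a b))ˣ}

theorem Ov.change_dual (hM : Ov M) (hb : 3 ≤ b) {X : Matrix (Fin a) (Fin a) F} {v : Fin b → F}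
    {φ : Dual F (Fin b → F)} (hφ : φ ≠ 0) (hv : φ v = 0) (h : MN M (te X v φ)) (c : F)
    (φ' : Dual F (Fin b → F)) (hv' : φ' v = 0) : MN M (te (c • X) v φ') := by
  have key : ∀ {Y : Matrix (Fin a) (Fin a) F} {χ χ' : Dual F (Fin b → F)} (d : F), χ v = 0 → χ' v = 0 →
      MN M (te Y v χ) → ¬ (∃ t : F, χ = t • χ') → χ' ≠ 0 → MN M (te (d • Y) v χ') := by
    intro Y χ χ' d hχ hχ' hY hne h0
    obtain ⟨w, hw, hwne⟩ : ∃ w, χ' w = 0 ∧ χ w ≠ 0 := by
      by_contra hc
      push Not at hc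
      exact hne (eq_smul_of_ker_le h0 hc)
    have hab : te (1 : Matrix (Fin a) (Fin a) F) ((d / χ w) • w) χ' * te Y v χ = 0 := by
      rw [te_mul_te, hχ', zero_smul]
    have := MN.comm (hM.right _ χ' (by rw [map_smul, hw, smul_zero])) hY hab
    rwa [te_mul_te, map_smul, smul_eq_mul, div_mul_cancel₀ _ hwne, mul_one, ← te_smul] at this
  rcases eq_or_ne φ' 0 with rfl | h0
  · rw [te_zero_dual]; exact MN.zero
  by_cases hprop : ∃ t : F, φ = t • φ'
  · obtain ⟨t, rfl⟩ := hprop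
    obtain ⟨u, hu⟩ : ∃ u, φ' u = 1 := by
      obtain ⟨u, hu⟩ := not_forall.1 fun hz => h0 (LinearMap.ext hz)
      exact ⟨(φ' u)⁻¹ • u, by rw [map_smul, smul_eq_mul, inv_mul_cancel₀ hu]⟩
    obtain ⟨χ, hχ0, hχv, hχu⟩ := exists_dual_two hb v u
    have ht : t ≠ 0 := fun ht => hφ (by rw [ht, zero_smul])
    have h1 : MN M (te ((1 : F) • X) v χ) := key 1 hv hχv h (fun ⟨s, hs⟩ => by
      have := LinearMap.congr_fun hs u
      simp [hu, hχu, ht] at this) hχ0
    rw [one_smul] at h1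
    exact key c hχv hv' h1 (fun ⟨s, hs⟩ => hχ0 (by
      have := LinearMap.congr_fun hs u
      simp only [LinearMap.smul_apply, hu, hχu, smul_eq_mul, mul_one] at this
      rw [hs, ← this, zero_smul])) h0
  · exact key c hv hv' h hprop h0

theorem Ov.change_vec (hM : Ov M) (hb : 3 ≤ b) {X : Matrix (Fin a) (Fin a) F} {v : Fin b → F}
    {φ : Dual F (Fin b → F)} (hv0 : v ≠ 0) (hv : φ v = 0) (h : MN M (te X v φ))
    (v' : Fin b → F) (hv' : φ v' = 0) : MN M (te X v' φ) := by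
  have key : ∀ {u u' : Fin b → F}, φ u = 0 → φ u' = 0 → MN M (te X u φ) → u' ≠ 0 →
      u ∉ Submodule.span F {u'} → MN M (te X u' φ) := by
    intro u u' hu hu' hX h0 hne
    obtain ⟨χ, hχ, hle⟩ := Submodule.exists_le_ker_of_notMem hne
    have hχu' : χ u' = 0 := hle (Submodule.mem_span_singleton_self u')
    have hab : te X u φ * te (1 : Matrix (Fin a) (Fin a) F) u' ((χ u)⁻¹ • χ) = 0 := by
      rw [te_mul_te, hu', zero_smul]
    have := MN.comm hX (hM.right u' _ (by rw [LinearMap.smul_apply, hχu', smul_zero])) hab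
    rwa [te_mul_te, LinearMap.smul_apply, smul_eq_mul, inv_mul_cancel₀ hχ, one_smul, one_mul] at this
  rcases eq_or_ne v' 0 with rfl | h0
  · rw [te_zero_vec]; exact MN.zero
  by_cases hmem : v ∈ Submodule.span F {v'}
  · obtain ⟨t, rfl⟩ := Submodule.mem_span_singleton.1 hmem
    obtain ⟨χ, hχ⟩ : ∃ χ : Dual F (Fin b → F), χ v' = 1 := by
      obtain ⟨χ, h1, -⟩ := Submodule.exists_le_ker_of_notMem (p := (⊥ : Submodule F (Fin b → F))) (v := v')
        (by rw [Submodule.mem_bot]; exact h0)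
      exact ⟨(χ v')⁻¹ • χ, by rw [LinearMap.smul_apply, smul_eq_mul, inv_mul_cancel₀ h1]⟩
    obtain ⟨w, hw0, hwφ, hwχ⟩ := exists_vec_two hb φ χ
    have ht : t ≠ 0 := fun ht => hv0 (by rw [ht, zero_smul])
    refine key hwφ hv' (key hv hwφ h hw0 fun hm => ?_) h0 fun hm => ?_
    · obtain ⟨s, hs⟩ := Submodule.mem_span_singleton.1 hm
      have := congrArg χ hs
      simp [hwχ, hχ] at this
      exact ht this.symm
    · obtain ⟨s, rfl⟩ := Submodule.mem_span_singleton.1 hm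
      rw [map_smul, hχ, smul_eq_mul, mul_one] at hwχ
      exact hw0 (by rw [hwχ, zero_smul])
  · exact key hv hv' h h0 hmem

/-- One pair suffices. -/
theorem Ov.inL (hM : Ov M) (hb : 3 ≤ b) {X : Matrix (Fin a) (Fin a) F} {v : Fin b → F}
    {φ : Dual F (Fin b → F)} (hv0 : v ≠ 0) (hφ : φ ≠ 0) (hv : φ v = 0) (h : MN M (te X v φ)) (c : F) :
    InL M (c • X) := by
  intro w ψ hw
  obtain ⟨χ, hχ0, hχv, hχw⟩ := exists_dual_two hb v w
  rcases eq_or_ne w 0 with rfl | hw0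
  · rw [te_zero_vec]; exact MN.zero
  have h1 : MN M (te (c • X) v χ) := hM.change_dual hb hφ hv h c χ hχv
  have h2 : MN M (te (c • X) w χ) := hM.change_vec hb hv0 hχv h1 w hχw
  simpa using hM.change_dual hb hχ0 hχw h2 1 ψ hw

theorem Ov.inL_one (hM : Ov M) : InL M (1 : Matrix (Fin a) (Fin a) F) := hM.right

theorem InL.add {X Y : Matrix (Fin a) (Fin a) F} (hX : InL M X) (hY : InL M Y) : InL M (X + Y) :=
  fun v φ hv => by
    rw [te_add]
    exact (hX v φ hv).add (hY v φ hv) (by rw [te_mul_te, hv, zero_smul]) (by rw [te_mul_te, hv, zero_smul])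

theorem InL.neg {X : Matrix (Fin a) (Fin a) F} (hX : InL M X) : InL M (-X) := fun v φ hv => by
  have := (hX v φ hv).neg
  rwa [← neg_one_smul F (te X v φ), ← te_smul, neg_one_smul] at this

theorem InL.smul (hM : Ov M) (hb : 3 ≤ b) {X : Matrix (Fin a) (Fin a) F} (hX : InL M X) (c : F) :
    InL M (c • X) := by
  obtain ⟨φ, hφ, hv, -⟩ := exists_dual_two hb (Pi.single ⟨0, by omega⟩ (1 : F)) 0
  exact hM.inL hb (by simp) hφ hv (hX _ φ hv) c

theorem InL.conj (hM : Ov M) {X : Matrix (Fin a) (Fin a) F} (hX : InL M X) {c ψ : Fin a → F}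
    (h : ψ ⬝ᵥ c = 0) : InL M ((1 + vecMulVec c ψ) * X * (1 - vecMulVec c ψ)) := fun v φ hv => by
  obtain ⟨hN2, u, hu, huN⟩ := hM.left c ψ h
  have := (hX v φ hv).conj hu
  rw [coe_inv_of_eq hN2 huN, huN] at this
  convert this using 1
  have hsub : lt (1 - vecMulVec c ψ) = (1 : Module.End F (T F a b)) - lt (vecMulVec c ψ) := by
    rw [eq_sub_iff_add_eq, ← lt_add, sub_add_cancel, lt_one]
  rw [← hsub, ← lt_one, ← lt_add, lt_mul_te, te_mul_lt]

end Cfsg.Agent.H98.TensorGL
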