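import Cfsg.Agent.H98.TensorGL.Key

/-!
Shifting an element that does not respect the decomposition until a commutator has deficient support.
-/

set_option autoImplicit false

namespace Cfsg.Agent.H98.TensorGL

open Module Matrix Cfsg.Agent.H98.ExtField

variable {F : Type*} [Field F] {a b : ℕ} {M : Subgroup (Module.End F (T F a b))ˣ}

/-- The coefficient space of `Im Y ∩ (F^a ⊗ v)`. -/
def coeff (Y : (Fin a → F) →ₗ[F] T F a b) (v : Fin b → F) : Submodule F (Fin a → F) :=
  (LinearMap.range Y).comap (pure v)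

theorem exists_functional {W : Submodule F (Fin a → F)} {x : Fin a → F} (hx : x ∉ W) :
    ∃ ψ : Fin a → F, ψ ⬝ᵥ x = 1 ∧ ∀ w ∈ W, ψ ⬝ᵥ w = 0 := by
  obtain ⟨f, hf, hle⟩ := Submodule.exists_le_ker_of_notMem hx
  have h : ∀ u, (dotProductEquiv F (Fin a)).symm f ⬝ᵥ u = f u := fun u => by
    conv_rhs => rw [← LinearEquiv.apply_symm_apply (dotProductEquiv F (Fin a)) f]
    rw [dotProductEquiv_apply_apply]
  refine ⟨(f x)⁻¹ • (dotProductEquiv F (Fin a)).symm f, by rw [smul_dotProduct, h, smul_eq_mul,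
    inv_mul_cancel₀ hf], fun w hw => ?_⟩
  rw [smul_dotProduct, h, LinearMap.mem_ker.1 (hle hw), smul_zero]

variable {g : (Module.End F (T F a b))ˣ} {v₀ v₁ : Fin b → F}

theorem injective_image (g : (Module.End F (T F a b))ˣ) (hv₀ : v₀ ≠ 0) :
    Function.Injective ((g : Module.End F (T F a b)) ∘ₗ pure (a := a) v₀) :=
  (units_injective g).comp (pure_injective hv₀)

theorem finrank_coeff_lt (hv₀ : v₀ ≠ 0) (hv₁ : v₁ ≠ 0) (hnp : NotPure ((g : Module.End F (T F a b)) ∘ₗ pure v₀)) :
    finrank F (coeff ((g : Module.End F (T F a b)) ∘ₗ pure v₀) v₁) < a := by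
  refine lt_of_le_of_ne ((Submodule.finrank_le _).trans (finrank_fin_fun F).le) fun h => ?_
  have htop : coeff ((g : Module.End F (T F a b)) ∘ₗ pure v₀) v₁ = ⊤ :=
    Submodule.eq_top_of_finrank_eq (by rw [h, finrank_fin_fun])
  refine hnp v₁ (le_of_eq (Submodule.eq_of_le_of_finrank_eq ?_ ?_).symm)
  · rintro _ ⟨u, rfl⟩
    exact show u ∈ coeff _ _ by rw [htop]; exact Submodule.mem_top
  · rw [LinearMap.finrank_range_of_inj (pure_injective hv₁),
      LinearMap.finrank_range_of_inj (injective_image g hv₀)]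

theorem finrank_comap_eq (hv₀ : v₀ ≠ 0) (hv₁ : v₁ ≠ 0) :
    finrank F ((LinearMap.range (pure v₁)).comap ((g : Module.End F (T F a b)) ∘ₗ pure v₀)) =
      finrank F (coeff ((g : Module.End F (T F a b)) ∘ₗ pure v₀) v₁) := by
  rw [(Submodule.equivMapOfInjective _ (injective_image g hv₀) _).finrank_eq,
    (Submodule.equivMapOfInjective _ (pure_injective hv₁) (coeff _ v₁)).finrank_eq, coeff,
    Submodule.map_comap_eq, Submodule.map_comap_eq, inf_comm]

/-- Conjugating a unit fixing `p` and `Im Y ∩ (F^a ⊗ v₁)` increases the intersection. -/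
theorem shift (hg : g ∈ M) (hv₀ : v₀ ≠ 0) (hv₁ : v₁ ≠ 0) {h : (Module.End F (T F a b))ˣ} (hh : h ∈ M)
    {u : Fin a → F} (hu : (g : Module.End F (T F a b)) (pure v₀ u) ∉ LinearMap.range (pure v₁))
    (hfix : (h : Module.End F (T F a b)) ((g : Module.End F (T F a b)) (pure v₀ u)) =
      (g : Module.End F (T F a b)) (pure v₀ u))
    (hW : ∀ w ∈ coeff ((g : Module.End F (T F a b)) ∘ₗ pure v₀) v₁,
      (h : Module.End F (T F a b)) (pure v₁ w) = pure v₁ w)
    {m : Fin a → F} (hm : (h : Module.End F (T F a b)) ((g : Module.End F (T F a b)) (pure v₀ m)) ∉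
      LinearMap.range ((g : Module.End F (T F a b)) ∘ₗ pure v₀)) :
    ∃ g' ∈ M, NotPure ((g' : Module.End F (T F a b)) ∘ₗ pure v₀) ∧
      finrank F (coeff ((g : Module.End F (T F a b)) ∘ₗ pure v₀) v₁) <
        finrank F (coeff ((g' : Module.End F (T F a b)) ∘ₗ pure v₀) v₀) := by
  refine ⟨g⁻¹ * h * g, M.mul_mem (M.mul_mem (M.inv_mem hg) hh) hg, ?_, ?_⟩
  all_goals
    have hval : ∀ x : Fin a → F, ((g⁻¹ * h * g : (Module.End F (T F a b))ˣ) : Module.End F (T F a b))
        (pure v₀ x) = ((g⁻¹ : (Module.End F (T F a b))ˣ) : Module.End F (T F a b))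
          ((h : Module.End F (T F a b)) ((g : Module.End F (T F a b)) (pure v₀ x))) := fun x => rfl
    have hgu : ((g⁻¹ * h * g : (Module.End F (T F a b))ˣ) : Module.End F (T F a b)) (pure v₀ u) = pure v₀ u := by
      rw [hval, hfix, inv_apply_apply]
  · intro s hs
    obtain ⟨w, hw⟩ := hs ⟨u, hgu⟩
    obtain ⟨i, hi⟩ : ∃ i, u i ≠ 0 := by
      by_contra hc
      push Not at hc
      refine hu ?_
      rw [funext hc, show (fun _ : Fin a => (0 : F)) = 0 from rfl, map_zero, map_zero]
      exact zero_mem _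
    have hwi : w i • s = u i • v₀ := congrFun hw i
    have hwi0 : w i ≠ 0 := fun h0 => hv₀ (by
      rw [h0, zero_smul] at hwi
      exact (smul_eq_zero.1 hwi.symm).resolve_left hi)
    have hs' : s = (u i / w i) • v₀ := by
      rw [div_eq_inv_mul, mul_smul, ← hwi, inv_smul_smul₀ hwi0]
    obtain ⟨z, hz⟩ := hs ⟨m, rfl⟩
    refine hm ⟨(u i / w i) • z, ?_⟩
    have e1 : ((g⁻¹ : (Module.End F (T F a b))ˣ) : Module.End F (T F a b))
        ((h : Module.End F (T F a b)) ((g : Module.End F (T F a b)) (pure v₀ m))) = pure v₀ ((u i / w i) • z) := by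
      rw [← hval, ← LinearMap.comp_apply ((g⁻¹ * h * g : (Module.End F (T F a b))ˣ) : Module.End F (T F a b)),
        ← hz, hs']
      exact funext fun j => by simp [smul_smul, mul_comm]
    rw [LinearMap.comp_apply, ← e1, apply_inv_apply]
  · rw [← finrank_comap_eq hv₀ hv₁]
    refine Submodule.finrank_lt_finrank_of_lt (lt_of_le_of_ne (fun x hx => ?_) fun he => ?_)
    · obtain ⟨w, hw⟩ := hx
      refine ⟨x, ?_⟩
      rw [LinearMap.comp_apply] at hw ⊢
      rw [hval, ← hw, hW w ⟨x, hw.symm⟩, hw, inv_apply_apply]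
    · exact hu ((SetLike.ext_iff.1 he u).2 ⟨u, hgu⟩)

theorem lt_vecMulVec_apply (c ψ : Fin a → F) (p : T F a b) :
    lt (vecMulVec c ψ) p = pure (∑ k, ψ k • p k) c :=
  funext fun i => by simp [lt, vecMulVec_apply, Finset.smul_sum, smul_smul]

theorem lt_sub (X Y : Matrix (Fin a) (Fin a) F) : (lt (X - Y) : Module.End F (T F a b)) = lt X - lt Y := by
  rw [eq_sub_iff_add_eq, ← lt_add, sub_add_cancel]

theorem te_one_apply (v : Fin b → F) (φ : Dual F (Fin b → F)) (m : T F a b) :
    te (1 : Matrix (Fin a) (Fin a) F) v φ m = pure v (ev φ m) := by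
  rw [te_apply, Matrix.one_mulVec]

/-- If `v₁` and the rows of some `p` lie in a proper subspace, a shift is possible. -/
theorem Ov.shift_deficient (hM : Ov M) (hb : 3 ≤ b) (hab : a < b) (hg : g ∈ M) (hv₀ : v₀ ≠ 0) (hv₁ : v₁ ≠ 0)
    (hnp : NotPure ((g : Module.End F (T F a b)) ∘ₗ pure v₀)) (hns : ¬ HasNonScalar M) {u : Fin a → F}
    (hu : (g : Module.End F (T F a b)) (pure v₀ u) ∉ LinearMap.range (pure v₁))
    {φ : Dual F (Fin b → F)} (hφ : φ ≠ 0) (hφp : ev φ ((g : Module.End F (T F a b)) (pure v₀ u)) = 0)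
    (hφW : ∀ w ∈ coeff ((g : Module.End F (T F a b)) ∘ₗ pure v₀) v₁, φ v₁ • w = 0) :
    ∃ g' ∈ M, NotPure ((g' : Module.End F (T F a b)) ∘ₗ pure v₀) ∧
      finrank F (coeff ((g : Module.End F (T F a b)) ∘ₗ pure v₀) v₁) <
        finrank F (coeff ((g' : Module.End F (T F a b)) ∘ₗ pure v₀) v₀) := by
  obtain ⟨m, hm⟩ : ∃ m, ev φ ((g : Module.End F (T F a b)) (pure v₀ m)) ≠ 0 := by
    by_contra hc
    push Not at hc
    exact hns (hM.of_image_supp hb hg hv₀ hnp hφ (LinearMap.ext hc))
  set v := ev φ ((g : Module.End F (T F a b)) (pure v₀ m)) with hv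
  obtain ⟨c, hc0, hc⟩ : ∃ c, φ c = 0 ∧
      pure c v ∉ LinearMap.range ((g : Module.End F (T F a b)) ∘ₗ pure v₀) := by
    by_contra hcon
    push Not at hcon
    let f : LinearMap.ker φ →ₗ[F] T F a b :=
      { toFun := fun c => pure (c : Fin b → F) v
        map_add' := fun c d => funext fun i => by simp [smul_add]
        map_smul' := fun r c => funext fun i => by simp [smul_smul, mul_comm] }
    have hfinj : Function.Injective f := fun c d hcd => by
      obtain ⟨i, hi⟩ : ∃ i, v i ≠ 0 := Function.ne_iff.1 hm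
      exact Subtype.ext (smul_right_injective (Fin b → F) hi (congrFun hcd i))
    have heq : LinearMap.range f = LinearMap.range ((g : Module.End F (T F a b)) ∘ₗ pure v₀) := by
      refine Submodule.eq_of_le_of_finrank_le ?_ ?_
      · rintro _ ⟨c, rfl⟩
        exact hcon c (LinearMap.mem_ker.1 c.2)
      · rw [LinearMap.finrank_range_of_inj hfinj, LinearMap.finrank_range_of_inj (injective_image g hv₀),
          finrank_fin_fun]
        have h1 := LinearMap.finrank_range_add_finrank_ker φ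
        have h2 := (Submodule.finrank_le (LinearMap.range φ)).trans (finrank_self F).le
        rw [finrank_fin_fun] at h1
        omega
    obtain ⟨c, hc⟩ := heq.ge ⟨m, rfl⟩
    refine hm ?_
    rw [hv, ← LinearMap.comp_apply (g : Module.End F (T F a b)), ← hc]
    exact (ev_pure φ (c : Fin b → F) v).trans (by rw [LinearMap.mem_ker.1 c.2, zero_smul])
  obtain ⟨-, h, hh, hh'⟩ := hM.right c φ hc0
  refine shift hg hv₀ hv₁ hh hu ?_ (fun w hw => ?_) (m := m) ?_
  · rw [hh', LinearMap.add_apply, Module.End.one_apply, te_one_apply, hφp, map_zero, add_zero]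
  · rw [hh', LinearMap.add_apply, Module.End.one_apply, te_one_apply, ev_pure, hφW w hw, map_zero, add_zero]
  · rw [hh', LinearMap.add_apply, Module.End.one_apply, te_one_apply]
    intro hmem
    exact hc ((Submodule.add_mem_iff_right (LinearMap.range _) (LinearMap.mem_range_self _ m)).1 hmem)

/-- A matrix with every vector an eigenvector is scalar. -/
theorem scalar_of_eigen (X : Matrix (Fin a) (Fin a) F) (h : ∀ c, X *ᵥ c ∈ Submodule.span F {c}) :
    ∃ t : F, X = t • 1 := by
  choose r hr using fun c => Submodule.mem_span_singleton.1 (h c)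
  rcases isEmpty_or_nonempty (Fin a) with he | ⟨⟨i₀⟩⟩
  · exact ⟨0, Matrix.ext fun i => isEmptyElim i⟩
  have hcol : ∀ i j, X i j = if i = j then r (Pi.single j 1) else 0 := fun i j => by
    have := congrFun (hr (Pi.single j 1)) i
    simp only [mulVec_single_one, Pi.smul_apply, Pi.single_apply, smul_eq_mul, mul_ite, mul_one, mul_zero,
      col_apply] at this
    exact this.symm
  refine ⟨r (Pi.single i₀ 1), Matrix.ext fun i j => ?_⟩
  rw [hcol i j, Matrix.smul_apply, Matrix.one_apply, smul_eq_mul, mul_ite, mul_one, mul_zero]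
  split_ifs with hij
  · subst hij
    rcases eq_or_ne i i₀ with rfl | hi
    · rfl
    have h1 := congrFun (hr (Pi.single i 1 + Pi.single i₀ 1)) i
    have h2 := congrFun (hr (Pi.single i 1 + Pi.single i₀ 1)) i₀
    simp [mulVec_add, hcol, hi, hi.symm] at h1 h2
    rw [← h1, ← h2]
  · rfl

/-- If `v₁` and the rows of every `p` span, a shift is still possible below the last step. -/
theorem Ov.shift_spanning (hM : Ov M) (hg : g ∈ M) (hv₀ : v₀ ≠ 0) (hv₁ : v₁ ≠ 0)
    (ha : finrank F (coeff ((g : Module.End F (T F a b)) ∘ₗ pure v₀) v₁) + 2 ≤ a) (ha3 : 3 ≤ a)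
    (hspan : ∀ p ∈ LinearMap.range ((g : Module.End F (T F a b)) ∘ₗ pure v₀), p ∉ LinearMap.range (pure v₁) →
      ∀ φ : Dual F (Fin b → F), ev φ p = 0 → φ v₁ = 0 → φ = 0)
    (hdual : ∀ p ∈ LinearMap.range ((g : Module.End F (T F a b)) ∘ₗ pure v₀), p ∉ LinearMap.range (pure v₁) →
      ∀ w : Fin a → F, ∃ φ : Dual F (Fin b → F), ev φ p = w ∧ φ v₁ = 0) :
    ∃ g' ∈ M, NotPure ((g' : Module.End F (T F a b)) ∘ₗ pure v₀) ∧
      finrank F (coeff ((g : Module.End F (T F a b)) ∘ₗ pure v₀) v₁) <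
        finrank F (coeff ((g' : Module.End F (T F a b)) ∘ₗ pure v₀) v₀) := by
  set Y := (g : Module.End F (T F a b)) ∘ₗ pure v₀ with hYdef
  set WA := coeff Y v₁ with hWA
  obtain ⟨u, hu⟩ : ∃ u, Y u ∉ LinearMap.range (pure v₁) := by
    by_contra hc
    push Not at hc
    have htop : (LinearMap.range (pure v₁)).comap Y = ⊤ := top_le_iff.1 fun u _ => hc u
    have := finrank_comap_eq (a := a) (g := g) hv₀ hv₁
    rw [← hYdef, htop, finrank_top, finrank_fin_fun, ← hWA] at this
    omega
  set p := Y u with hp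
  have hYinj : Function.Injective Y := injective_image g hv₀
  by_contra hcon
  have hrep : ∀ m : T F a b, ∃ (X : Matrix (Fin a) (Fin a) F) (v : Fin a → F), m = lt X p + pure v₁ v := by
    intro m
    have htop : Submodule.span F (insert v₁ (Set.range p)) = ⊤ := by
      by_contra hne
      obtain ⟨φ, hφ, hle⟩ := Submodule.exists_le_ker_of_lt_top _ (lt_top_iff_ne_top.2 hne)
      exact hφ (hspan p ⟨u, rfl⟩ hu φ
        (funext fun i => hle (Submodule.subset_span (Set.mem_insert_of_mem _ ⟨i, rfl⟩)))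
        (hle (Submodule.subset_span (Set.mem_insert _ _))))
    have : ∀ i, ∃ (t : F) (z : Fin a → F), m i = t • v₁ + ∑ k, z k • p k := fun i => by
      obtain ⟨t, y, hy, he⟩ := Submodule.mem_span_insert.1 (htop ▸ Submodule.mem_top (x := m i))
      obtain ⟨z, rfl⟩ := Submodule.mem_span_range_iff_exists_fun F |>.1 hy
      exact ⟨t, z, he⟩
    choose t z ht using this
    exact ⟨Matrix.of z, t, funext fun i => by simp [lt, ht i, add_comm]⟩
  have huniq : ∀ (D : Matrix (Fin a) (Fin a) F) (z : Fin a → F), lt D p = pure v₁ z → D = 0 ∧ z = 0 := by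
    intro D z hD
    have hD0 : D = 0 := Matrix.ext_iff_mulVec.2 fun w => by
      obtain ⟨φ, hφp, hφv⟩ := hdual p ⟨u, rfl⟩ hu w
      have := congrArg (ev φ) hD
      rw [ev_lt, ev_pure, hφv, zero_smul, hφp] at this
      rw [this, Matrix.zero_mulVec]
    refine ⟨hD0, pure_injective hv₁ ?_⟩
    rw [← hD, hD0, map_zero]
    exact funext fun i => by simp [lt]
  have hall : ∀ c ψ : Fin a → F, (∀ w ∈ WA, ψ ⬝ᵥ w = 0) → ψ ⬝ᵥ c = 0 → ∀ (X : Matrix (Fin a) (Fin a) F)
      (v : Fin a → F), lt X p + pure v₁ v ∈ LinearMap.range Y →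
        (∀ w, ψ ⬝ᵥ w = 1 → X *ᵥ c ∈ Submodule.span F {c}) ∧ (ψ ⬝ᵥ v) • c ∈ WA := by
    intro c ψ hψW hψc X v hm
    obtain ⟨φ, hφp, hφv⟩ := hdual p ⟨u, rfl⟩ hu c
    set s := ∑ k, ψ k • p k with hs
    have hφs : φ (-s) = 0 := by
      rw [map_neg, neg_eq_zero, hs, map_sum]
      simp only [map_smul, smul_eq_mul]
      rw [← hψc, ← hφp]
      rfl
    obtain ⟨-, h₁, hh₁, hh₁'⟩ := hM.left c ψ hψc
    obtain ⟨-, h₂, hh₂, hh₂'⟩ := hM.right (-s) φ hφs
    have hh : ((h₁ * h₂ : (Module.End F (T F a b))ˣ) : Module.End F (T F a b)) =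
        (1 + lt (vecMulVec c ψ)) * (1 + te (1 : Matrix (Fin a) (Fin a) F) (-s) φ) := by
      rw [Units.val_mul, hh₁', hh₂']
    have hact : ∀ (X : Matrix (Fin a) (Fin a) F) (v : Fin a → F),
        ((h₁ * h₂ : (Module.End F (T F a b))ˣ) : Module.End F (T F a b)) (lt X p + pure v₁ v) =
          (lt X p + pure v₁ v) + (lt (vecMulVec c (ψ ᵥ* X) -
            vecMulVec (X *ᵥ c + (ψ ⬝ᵥ (X *ᵥ c)) • c) ψ) p + pure v₁ ((ψ ⬝ᵥ v) • c)) := by
      intro X v
      have hneg : ∀ w : Fin a → F, pure (-s) w = -lt (vecMulVec w ψ) p := fun w => by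
        rw [lt_vecMulVec_apply, ← hs]
        exact funext fun i => by simp
      rw [hh, Module.End.mul_apply, LinearMap.add_apply, LinearMap.add_apply, Module.End.one_apply,
        Module.End.one_apply, te_one_apply]
      simp only [map_add, ev_lt, ev_pure, hφp, hφv, zero_smul, add_zero, hneg, map_neg, lt_pure,
        ← Module.End.mul_apply, ← lt_mul, vecMulVec_mul, mul_vecMulVec, vecMulVec_mulVec]
      simp only [op_smul_eq_smul, lt_sub, LinearMap.sub_apply, lt_add, LinearMap.add_apply, add_vecMulVec]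
      abel
    have hkeep : ∀ x, ((h₁ * h₂ : (Module.End F (T F a b))ˣ) : Module.End F (T F a b)) (Y x) ∈
        LinearMap.range Y := by
      intro x
      by_contra hx
      refine hcon (shift hg hv₀ hv₁ (M.mul_mem hh₁ hh₂) hu ?_ (fun w hw => ?_) hx)
      · have := hact 1 0
        simp only [lt_one, Module.End.one_apply, map_zero, add_zero, Matrix.vecMul_one, Matrix.one_mulVec,
          hψc, zero_smul, sub_self, dotProduct_zero] at this
        rw [show lt (0 : Matrix (Fin a) (Fin a) F) p = 0 from funext fun i => by simp [lt], add_zero] at this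
        exact this
      · have := hact 0 w
        have hz : lt (0 : Matrix (Fin a) (Fin a) F) p = 0 := funext fun i => by simp [lt]
        simp only [hz, zero_add, Matrix.vecMul_zero, Matrix.zero_mulVec, dotProduct_zero, zero_smul, add_zero,
          vecMulVec_zero, zero_vecMulVec, sub_self, hψW w hw, map_zero] at this
        exact this
    obtain ⟨x, hx⟩ := hm
    have hΔ := hkeep x
    rw [hx, hact, Submodule.add_mem_iff_right (LinearMap.range Y) (LinearMap.mem_range.2 ⟨x, hx⟩)] at hΔ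
    set D := vecMulVec c (ψ ᵥ* X) - vecMulVec (X *ᵥ c + (ψ ⬝ᵥ (X *ᵥ c)) • c) ψ with hD
    obtain ⟨w₀, hw₀, hw₀ψ, hw₀X⟩ := exists_vec_two ha3 (dotProductEquiv F (Fin a) ψ)
      (dotProductEquiv F (Fin a) (ψ ᵥ* X))
    rw [dotProductEquiv_apply_apply] at hw₀ψ hw₀X
    obtain ⟨φ', hφ'p, hφ'v⟩ := hdual p ⟨u, rfl⟩ hu w₀
    have hcol : lt D p + pure v₁ ((ψ ⬝ᵥ v) • c) ∈ LinearMap.range (pure v₁) := by
      by_contra hout
      have hzero : ev φ' (lt D p + pure v₁ ((ψ ⬝ᵥ v) • c)) = 0 := by
        rw [map_add, ev_lt, ev_pure, hφ'v, zero_smul, add_zero, hφ'p, hD, Matrix.sub_mulVec,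
          vecMulVec_mulVec, vecMulVec_mulVec, hw₀ψ, hw₀X]
        simp
      have := hspan _ hΔ hout φ' hzero hφ'v
      exact hw₀ (by rw [← hφ'p, this]; exact funext fun i => rfl)
    obtain ⟨z, hz⟩ := hcol
    obtain ⟨hD0, hz0⟩ := huniq D (z - (ψ ⬝ᵥ v) • c) (by rw [map_sub, hz, add_sub_cancel_right])
    refine ⟨fun w hw => ?_, ?_⟩
    · have h1 := congrArg (· *ᵥ w) hD0
      simp only [hD, Matrix.sub_mulVec, vecMulVec_mulVec, op_smul_eq_smul, hw, Matrix.zero_mulVec, one_smul] at h1
      rw [sub_eq_zero, ← sub_eq_iff_eq_add, ← sub_smul] at h1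
      exact Submodule.mem_span_singleton.2 ⟨_, h1⟩
    · have : lt D p = 0 := by rw [hD0]; exact funext fun i => by simp [lt]
      rw [this, zero_add] at hΔ
      exact hΔ
  have hle : LinearMap.range Y ≤ WA.map (pure v₁) ⊔ Submodule.span F {p} := by
    rintro _ ⟨x, rfl⟩
    obtain ⟨X, v, hXv⟩ := hrep (Y x)
    have hmem : lt X p + pure v₁ v ∈ LinearMap.range Y := ⟨x, hXv⟩
    obtain ⟨t, rfl⟩ := scalar_of_eigen X fun c => by
      have hlt : WA ⊔ Submodule.span F {c} < ⊤ := by
        refine Submodule.lt_top_of_finrank_lt_finrank ?_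
        rw [finrank_fin_fun]
        have h1 := Submodule.finrank_add_le_finrank_add_finrank WA (Submodule.span F {c})
        have h2 := finrank_span_le_card (R := F) ({c} : Set (Fin a → F))
        simp only [Set.toFinset_singleton, Finset.card_singleton] at h2
        omega
      obtain ⟨x₁, -, hx₁⟩ := SetLike.exists_of_lt hlt
      obtain ⟨ψ, hψ, hψW⟩ := exists_functional hx₁
      exact (hall c ψ (fun w hw => hψW w (Submodule.mem_sup_left hw))
        (hψW c (Submodule.mem_sup_right (Submodule.mem_span_singleton_self c))) X v hmem).1 x₁ hψ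
    have hv : v ∈ WA := by
      by_contra hv
      obtain ⟨ψ, hψ, hψW⟩ := exists_functional hv
      have hker : ¬ LinearMap.ker (dotProductEquiv F (Fin a) ψ) ≤ WA := fun hk => by
        have h1 := LinearMap.finrank_range_add_finrank_ker (dotProductEquiv F (Fin a) ψ)
        have h2 := (Submodule.finrank_le (LinearMap.range (dotProductEquiv F (Fin a) ψ))).trans (finrank_self F).le
        have h3 := Submodule.finrank_mono hk
        rw [finrank_fin_fun] at h1
        omega
      obtain ⟨c, hc, hcW⟩ := SetLike.not_le_iff_exists.1 hker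
      rw [LinearMap.mem_ker, dotProductEquiv_apply_apply] at hc
      have := (hall c ψ hψW hc _ v hmem).2
      rw [hψ, one_smul] at this
      exact hcW this
    rw [hXv, lt_smul, LinearMap.smul_apply, lt_one, Module.End.one_apply, add_comm]
    exact Submodule.add_mem_sup (Submodule.mem_map_of_mem hv)
      (Submodule.smul_mem _ _ (Submodule.mem_span_singleton_self p))
  have h1 := Submodule.finrank_mono hle
  have h2 := Submodule.finrank_add_le_finrank_add_finrank (WA.map (pure v₁)) (Submodule.span F {p})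
  have h3 := finrank_span_le_card (R := F) ({p} : Set (T F a b))
  have h4 := Submodule.finrank_map_le (pure v₁) WA
  simp only [Set.toFinset_singleton, Finset.card_singleton] at h3
  rw [LinearMap.finrank_range_of_inj hYinj, finrank_fin_fun] at h1
  omega

end Cfsg.Agent.H98.TensorGL
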